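import Cfsg.Agent.TypeO8Minus.KillTwo
import Cfsg.Agent.HNType.Facts
import Cfsg.Agent.LargeExtra.KillNine.PtsOminus

/-!
# The case `Ω₈⁻(2)` of S1763: `H = S₃ × A₅` (helper43)

`H_le : IsConf p φ confOminus → (G without subgroup of index two) → p.H ≤ NN φ`, where `NN φ` is generated by the
isometries with matrices in `confOminus.X ++ confOminus.N`.
-/

set_option autoImplicit false

namespace Cfsg.Agent.TypeO8Minus.KillFacts

open Cfsg.Agent.Co2Type.Quad Cfsg.Agent.LargeExtra.Base Cfsg.Agent.LargeExtra.Nine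
open Cfsg.Agent.LargeExtra.KillNine.Codes Cfsg.Agent.LargeExtra.Local
open Cfsg.Agent.HNType.TablesB Cfsg.Agent.HNType.Stab Cfsg.Agent.HNType.Iface
open Cfsg.Agent.HNType.Lin Cfsg.Agent.TypeO8Minus.KillTwo Cfsg.Agent.HNType
open Cfsg.Agent.LargeExtra.KillNine.PtsOminus (orb)

/-- generators of `N` -/
def gensN : List (List ℕ) := confOminus.X ++ confOminus.N

/-- the outer element -/
def muL : List ℕ := [1, 2, 8, 4, 16, 32, 128, 64]

theorem c_mm : mulL muL muL = idL := by decide +kernel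

/-- conjugates of the generators -/
def cw : List (List ℕ) := [[1], [0], [2], [3, 5], [4, 5], [5]]

theorem c_conj : ∀ j < 6, mulL (mulL muL (gensN.getD j [])) muL =
    prodL ((cw.getD j []).map fun i => gensN.getD i []) ∧
    ∀ L ∈ ((cw.getD j []).map fun i => gensN.getD i []), L ∈ gensN := by decide +kernel

theorem c_idx : ∀ L ∈ gensN, ∃ j < 6, gensN.getD j [] = L := by decide +kernel

/-- words mapping 1 to the points -/
def ow : List (ℕ × List ℕ) := [(1, []), (2, [3, 4, 2]), (3, [3, 4]), (16, [3, 1, 2]), (51, [3, 1]),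
  (80, [3, 2]), (123, [3]), (144, [3, 2, 5]), (183, [3, 5]), (210, [3, 0, 2]), (225, [5]), (231, [4, 2]),
  (235, [4]), (236, [4, 0]), (252, [3, 0])]

theorem c_ow : ∀ n ∈ orb, ∃ w ∈ ow, w.1 = n ∧ ap (prodL (w.2.map fun i => gensN.getD i [])) 1 = n ∧
    ∀ L ∈ (w.2.map fun i => gensN.getD i []), L ∈ gensN := by decide +kernel

theorem c_orb : ∀ n ∈ orb, n < 256 ∧ n ≠ 0 ∧ n ≠ 12 ∧ n ≠ 192 ∧ n ≠ 204 := by decide +kernel

theorem c_mu : ∀ n < 256, ap muL n = n ^^^ ((if bN 192 n = true then 12 else 0)) ^^^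
    ((if bN 12 n = true then 192 else 0)) := by decide +kernel

/-- the element of order three -/
def w3 : List ℕ := [3, 2, 5, 1]

theorem c_w3 : mulL (mulL (prodL (w3.map fun i => gensN.getD i [])) (prodL (w3.map fun i => gensN.getD i [])))
    (prodL (w3.map fun i => gensN.getD i [])) = idL ∧ ap (prodL (w3.map fun i => gensN.getD i [])) 12 = 192 ∧
    ap (prodL (w3.map fun i => gensN.getD i [])) 192 = 204 ∧
    ∀ L ∈ (w3.map fun i => gensN.getD i []), L ∈ gensN := by decide +kernel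

/-- the points in `S` -/
def oS : List ℕ := [1, 2, 3, 16, 51, 210, 225, 236, 252]

theorem c_P : ∀ i ∈ [51, 236, 2], bN 12 i = false ∧ bN 192 i = false ∧ bN 17 i = false ∧ i ∈ orb := by
  decide +kernel

theorem c_PT : ∀ i ∈ [51, 236, 2], ∀ m ∈ orb, (m = i ^^^ 0 ∨ m = i ^^^ 12 ∨ m = i ^^^ 192 ∨
    m = i ^^^ 204) → m = i := by decide +kernel

theorem c_S : ∀ n ∈ oS, n ∈ orb ∧ (n ∈ [51, 236, 2] ∨ ∀ m ∈ orb, (∀ i ∈ [51, 236, 2], bN m i = bN n i) →
    (∀ i ∈ [51, 236, 2], n ^^^ i ∈ orb → m ^^^ i ∈ orb) → m = n) := by decide +kernel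

theorem c_80 : ∀ m ∈ orb, (∀ i ∈ oS, bN m i = bN 80 i) → m = 80 ∨ m = 144 := by decide +kernel

theorem c_183 : ∀ m ∈ orb, (∀ i ∈ oS, bN m i = bN 183 i) → (m ^^^ 80 ∈ orb → m = 183) ∧
    (m ^^^ 144 ∈ orb → m = 123) := by decide +kernel

/-- the vector with code `12` -/
noncomputable def cv {G : Type*} [Group G] {Q : Subgroup G} {z : G} {h : Large Q z} (φ : Coord h) (n : ℕ) : h.V :=
  φ.e.symm (vec n)

variable {G : Type*} [Group G] {Q A : Subgroup G} {z a : G}

section

variable {h : Large Q z} {φ : Coord h}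

theorem e_cv (n : ℕ) : φ.e (cv φ n) = vec n := φ.e.apply_symm_apply _

variable (φ) in
/-- the element `σ` -/
noncomputable def sg : h.V ≃ₗ[ZMod 2] h.V :=
  LinearEquiv.ofInvolutive
    ((φ.e.symm : F8 →ₗ[ZMod 2] h.V) ∘ₗ lin muL ∘ₗ (φ.e : h.V →ₗ[ZMod 2] F8))
    (by
      intro x
      show φ.e.symm (lin muL (φ.e (φ.e.symm (lin muL (φ.e x))))) = x
      rw [φ.e.apply_symm_apply, ← lin_mulL, c_mm, lin_id, φ.e.symm_apply_apply])

theorem acts_sg : Acts φ muL (sg φ) := by
  intro x
  show φ.e (φ.e.symm (lin muL (φ.e x))) = _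
  rw [φ.e.apply_symm_apply]

theorem sg_sq : sg φ * sg φ = 1 := Acts.ext (φ := φ) (c_mm ▸ Acts.mul acts_sg acts_sg) Acts.one

theorem e_zero : φ.e (0 : h.V) = vec 0 := by rw [map_zero, vec_zero]

theorem cv_add {n m : ℕ} : cv φ (n ^^^ m) = cv φ n + cv φ m := by
  apply φ.e.injective
  rw [e_cv, map_add, e_cv, e_cv, vec_xor]

theorem cv_zero : cv φ 0 = 0 := by
  apply φ.e.injective
  rw [e_cv, e_zero]

theorem sg_def (x : h.V) : sg φ x = x + h.b (cv φ 192) x • cv φ 12 + h.b (cv φ 12) x • cv φ 192 := by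
  obtain ⟨n, hn, hx⟩ := Facts.exists_code' (φ := φ) x
  apply φ.e.injective
  rw [acts_code acts_sg hx, c_mu n hn, vec_xor, vec_xor, map_add, map_add, hx, map_smul, map_smul,
    e_cv, e_cv, Facts.b_code (e_cv 192) hx, Facts.b_code (e_cv 12) hx]
  cases bN 192 n <;> cases bN 12 n <;> simp [vec_zero]

/-- `f` maps the code `n` to the code `m` -/
def Mp (φ : Coord h) (f : h.V ≃ₗ[ZMod 2] h.V) (n m : ℕ) : Prop := f (cv φ n) = cv φ m

theorem Mp.xor {f : h.V ≃ₗ[ZMod 2] h.V} {n m n' m' : ℕ} (h1 : Mp φ f n m) (h2 : Mp φ f n' m') :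
    Mp φ f (n ^^^ n') (m ^^^ m') := by
  show f (cv φ (n ^^^ n')) = cv φ (m ^^^ m')
  have h1' : f (cv φ n) = cv φ m := h1
  have h2' : f (cv φ n') = cv φ m' := h2
  rw [cv_add, map_add, h1', h2', cv_add]

theorem cv_inj {n m : ℕ} (hn : n < 256) (hm : m < 256) (h1 : cv φ n = cv φ m) : n = m :=
  (Facts.eq_iff (φ := φ) hn hm (e_cv n) (e_cv m)).1 h1

theorem b_cv (n m : ℕ) : h.b (cv φ n) (cv φ m) = if bN n m = true then 1 else 0 :=
  Facts.b_code (e_cv n) (e_cv m)

theorem Mp.bit {f : h.V ≃ₗ[ZMod 2] h.V} (hf : ∀ x y, h.b (f x) (f y) = h.b x y) {n m n' m' : ℕ}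
    (h1 : Mp φ f n m) (h2 : Mp φ f n' m') : bN m m' = bN n n' := by
  have h1' : f (cv φ n) = cv φ m := h1
  have h2' : f (cv φ n') = cv φ m' := h2
  have h3 := hf (cv φ n) (cv φ n')
  rw [h1', h2', b_cv, b_cv] at h3
  cases h4 : bN m m' <;> cases h5 : bN n n' <;> rw [h4, h5] at h3
  · simp at h3
  · simp at h3

/-- xor of a list of codes -/
theorem mem_foldl (K : Submodule (ZMod 2) h.V) (l : List ℕ) (hl : ∀ n ∈ l, cv φ n ∈ K) (m : ℕ)
    (hm : cv φ m ∈ K) : cv φ (l.foldl (· ^^^ ·) m) ∈ K := by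
  induction l generalizing m with
  | nil => exact hm
  | cons x l ih =>
    apply ih (fun n hn => hl n (by simp [hn]))
    show cv φ (m ^^^ x) ∈ K
    rw [cv_add]
    exact K.add_mem hm (hl x (by simp))

/-- the basis -/
def bas : List ℕ := [51, 236, 2, 1, 225, 252, 80, 183]

/-- the unit vectors -/
def ul : List (List ℕ) := [[1], [2], [2, 225, 80, 183], [236, 2, 1, 80, 183], [236, 252], [51, 236, 2, 1, 252],
  [236, 252, 80], [51, 2, 225, 80]]

theorem c_ul : ∀ i < 8, (ul.getD i []).foldl (· ^^^ ·) 0 = 2 ^ i ∧ ∀ n ∈ ul.getD i [], n ∈ bas := by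
  decide +kernel

theorem eq_of_bas {f g : h.V ≃ₗ[ZMod 2] h.V} (hfg : ∀ n ∈ bas, f (cv φ n) = g (cv φ n)) : f = g := by
  set K := LinearMap.eqLocus (f : h.V →ₗ[ZMod 2] h.V) (g : h.V →ₗ[ZMod 2] h.V) with hK
  have h1 : ∀ i < 8, cv φ (2 ^ i) ∈ K := by
    intro i hi
    obtain ⟨h2, h3⟩ := c_ul i hi
    rw [← h2]
    apply mem_foldl
    · intro n hn
      exact hfg n (h3 n hn)
    · rw [cv_zero]; exact K.zero_mem
  have hbit : ∀ n, ∀ k ≤ 8, n < 2 ^ k → cv φ n ∈ K := by
    intro n k
    induction k generalizing n with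
    | zero =>
      intro _ hn
      have : n = 0 := by omega
      rw [this, cv_zero]; exact K.zero_mem
    | succ k ih =>
      intro hk hn
      by_cases hlt : n < 2 ^ k
      · exact ih n (by omega) hlt
      · have h4 : n = (n - 2 ^ k) ^^^ 2 ^ k := by
          have h5 : n = 2 ^ k + (n - 2 ^ k) := by omega
          have h6 : n - 2 ^ k < 2 ^ k := by
            rw [pow_succ] at hn; omega
          apply Nat.eq_of_testBit_eq
          intro j
          rw [Nat.testBit_xor]
          conv_lhs => rw [h5]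
          by_cases hj : j = k
          · subst hj
            rw [Nat.testBit_two_pow_add_eq, Nat.testBit_lt_two_pow h6, Nat.testBit_two_pow_self]; rfl
          · rw [Nat.testBit_two_pow_of_ne (Ne.symm hj), Bool.xor_false]
            rcases Nat.lt_or_gt_of_ne hj with h7 | h7
            · rw [Nat.testBit_two_pow_add_gt h7]
            · rw [← h5, Nat.testBit_lt_two_pow, Nat.testBit_lt_two_pow]
              · exact h6.trans (Nat.pow_lt_pow_right (by norm_num) h7)
              · exact hn.trans_le (Nat.pow_le_pow_right (by norm_num) h7)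
        rw [h4, cv_add]
        refine K.add_mem (ih _ (by omega) ?_) (h1 k (by omega))
        rw [pow_succ] at hn; omega
  ext x
  obtain ⟨n, hn, hx⟩ := Facts.exists_code' (φ := φ) x
  have hx' : x = cv φ n := by
    apply φ.e.injective
    rw [hx, e_cv]
  rw [hx']
  exact hbit n 8 le_rfl hn

/-- **Small**: an isometry permuting the points and trivial modulo `T` on `S ∩ β^⊥` is `1` or `σ` -/
theorem small_aux {f : h.V ≃ₗ[ZMod 2] h.V} (hf : ∀ x y, h.b (f x) (f y) = h.b x y)
    (horb : ∀ n ∈ orb, ∃ m ∈ orb, Mp φ f n m)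
    (hT : ∀ i ∈ [51, 236, 2], InT h (cv φ 12) (cv φ 192) (f (cv φ i) + cv φ i)) : f = 1 ∨ f = sg φ := by
  have hlt : ∀ n ∈ orb, n < 256 := fun n hn => (c_orb n hn).1
  have huniq : ∀ {n m m' : ℕ}, m < 256 → m' < 256 → Mp φ f n m → Mp φ f n m' → m = m' := by
    intro n m m' hm hm' h1 h2
    apply cv_inj (φ := φ) hm hm'
    have h1' : f (cv φ n) = cv φ m := h1
    rw [← h1']; exact h2
  -- adjacency
  have hadj : ∀ {n m n' m' : ℕ}, n ∈ orb → n' ∈ orb → m ∈ orb → m' ∈ orb → Mp φ f n m → Mp φ f n' m' →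
      n ^^^ n' ∈ orb → m ^^^ m' ∈ orb := by
    intro n m n' m' hn hn' hm hm' h1 h2 h3
    obtain ⟨k, hk, hk'⟩ := horb _ h3
    have h4 := h1.xor h2
    have h5 : m ^^^ m' < 256 := Nat.xor_lt_two_pow (n := 8) (hlt m hm) (hlt m' hm')
    rw [huniq h5 (hlt k hk) h4 hk']
    exact hk
  -- the three points
  have hP : ∀ i ∈ [51, 236, 2], Mp φ f i i := by
    intro i hi
    obtain ⟨m, hm, hm'⟩ := horb i (c_P i hi).2.2.2
    have hi256 := hlt i (c_P i hi).2.2.2
    have h1 : f (cv φ i) = cv φ m := hm'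
    have h2 := hT i hi
    rw [h1, ← cv_add] at h2
    have h3 : ∀ t < 256, cv φ (m ^^^ i) = cv φ t → m = i ^^^ t := by
      intro t ht h4
      have h5 : m ^^^ i < 256 := Nat.xor_lt_two_pow (n := 8) (hlt m hm) hi256
      have h6 := cv_inj (φ := φ) h5 ht h4
      rw [← h6]
      rw [Nat.xor_comm m i, ← Nat.xor_assoc, Nat.xor_self, Nat.zero_xor]
    have h4 : m = i := by
      apply c_PT i hi m hm
      rcases h2 with h5 | h5 | h5 | h5
      · left; exact h3 0 (by norm_num) (by rw [h5, cv_zero])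
      · right; left; exact h3 12 (by norm_num) h5
      · right; right; left; exact h3 192 (by norm_num) h5
      · right; right; right
        apply h3 204 (by norm_num)
        rw [h5, ← cv_add]
        rfl
    rw [h4] at hm'
    exact hm'
  have hPo : ∀ i ∈ [51, 236, 2], i ∈ orb := fun i hi => (c_P i hi).2.2.2
  -- the nine points
  have hS : ∀ n ∈ oS, Mp φ f n n := by
    intro n hn
    obtain ⟨hn1, hn2⟩ := c_S n hn
    rcases hn2 with hn2 | hn2
    · exact hP n hn2
    · obtain ⟨m, hm, hm'⟩ := horb n hn1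
      have h1 : m = n := by
        apply hn2 m hm
        · intro i hi
          exact Mp.bit hf hm' (hP i hi)
        · intro i hi h2
          exact hadj hn1 (hPo i hi) hm (hPo i hi) hm' (hP i hi) h2
      rw [h1] at hm'
      exact hm'
  have h80o : 80 ∈ orb := by decide
  have h183o : 183 ∈ orb := by decide
  obtain ⟨m, hm, hm'⟩ := horb 80 h80o
  obtain ⟨k, hk, hk'⟩ := horb 183 h183o
  have hk183 := c_183 k hk fun i hi => Mp.bit hf hk' (hS i hi)
  rcases c_80 m hm fun i hi => Mp.bit hf hm' (hS i hi) with rfl | rfl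
  · left
    have h1 : k = 183 := hk183.1 (hadj h183o h80o hk hm hk' hm' (by decide))
    rw [h1] at hk'
    apply eq_of_bas (φ := φ)
    intro n hn
    show f (cv φ n) = cv φ n
    simp only [bas, List.mem_cons, List.not_mem_nil, or_false] at hn
    rcases hn with rfl | rfl | rfl | rfl | rfl | rfl | rfl | rfl
    · exact hS 51 (by decide)
    · exact hS 236 (by decide)
    · exact hS 2 (by decide)
    · exact hS 1 (by decide)
    · exact hS 225 (by decide)
    · exact hS 252 (by decide)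
    · exact hm'
    · exact hk'
  · right
    have h1 : k = 123 := hk183.2 (hadj h183o h80o hk hm hk' hm' (by decide))
    rw [h1] at hk'
    have hsg : ∀ n, sg φ (cv φ n) = cv φ (ap muL n) := by
      intro n
      apply φ.e.injective
      rw [acts_code acts_sg (e_cv n), e_cv]
    apply eq_of_bas (φ := φ)
    intro n hn
    rw [hsg]
    simp only [bas, List.mem_cons, List.not_mem_nil, or_false] at hn
    rcases hn with rfl | rfl | rfl | rfl | rfl | rfl | rfl | rfl
    · rw [show ap muL 51 = 51 by decide]; exact hS 51 (by decide)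
    · rw [show ap muL 236 = 236 by decide]; exact hS 236 (by decide)
    · rw [show ap muL 2 = 2 by decide]; exact hS 2 (by decide)
    · rw [show ap muL 1 = 1 by decide]; exact hS 1 (by decide)
    · rw [show ap muL 225 = 225 by decide]; exact hS 225 (by decide)
    · rw [show ap muL 252 = 252 by decide]; exact hS 252 (by decide)
    · rw [show ap muL 80 = 144 by decide]; exact hm'
    · rw [show ap muL 183 = 123 by decide]; exact hk'

variable (φ) in
/-- the group generated by the matrices `gensN` -/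
noncomputable def NN : Subgroup (h.V ≃ₗ[ZMod 2] h.V) := Subgroup.closure {f | ∃ L ∈ gensN, Acts φ L f}

theorem in_NN {L : List ℕ} (hL : L ∈ gensN) {f : h.V ≃ₗ[ZMod 2] h.V} (hf : Acts φ L f) : f ∈ NN φ :=
  Subgroup.subset_closure ⟨L, hL, hf⟩

/-- `σ` normalises `N` -/
theorem conj_NN (hreal : ∀ L ∈ gensN, ∃ f, Acts φ L f) {f : h.V ≃ₗ[ZMod 2] h.V} (hf : f ∈ NN φ) :
    sg φ * f * sg φ ∈ NN φ := by
  have hi : (sg φ)⁻¹ = sg φ := inv_eq_of_mul_eq_one_left sg_sq
  have hle : NN φ ≤ (NN φ).comap (MulAut.conj (sg φ)).toMonoidHom := by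
    rw [NN, Subgroup.closure_le]
    rintro f ⟨L, hL, hf⟩
    obtain ⟨j, hj, rfl⟩ := c_idx L hL
    obtain ⟨h1, h2⟩ := c_conj j hj
    show sg φ * f * (sg φ)⁻¹ ∈ NN φ
    rw [hi]
    have h3 : Acts φ (mulL (mulL muL (gensN.getD j [])) muL) (sg φ * (f * sg φ)) :=
      Acts.mul (Acts.mul acts_sg hf) acts_sg
    rw [h1, ← mul_assoc] at h3
    obtain ⟨g, hg, hg'⟩ : In φ (NN φ) (prodL ((cw.getD j []).map fun i => gensN.getD i [])) := by
      apply In.prod
      intro M hM
      obtain ⟨g, hg⟩ := hreal M (h2 M hM)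
      exact ⟨g, in_NN (h2 M hM) hg, hg⟩
    rw [Acts.ext (φ := φ) h3 hg']
    exact hg
  have := hle hf
  rw [← hi]
  nth_rewrite 1 [hi]
  exact this

/-- the two cosets of `N` -/
theorem coset (hreal : ∀ L ∈ gensN, ∃ f, Acts φ L f) {f : h.V ≃ₗ[ZMod 2] h.V}
    (hf : f ∈ Subgroup.closure {f | ∃ L ∈ confOminus.X ++ confOminus.N ++ confOminus.M, Acts φ L f}) :
    f ∈ NN φ ∨ sg φ * f ∈ NN φ := by
  have hi : (sg φ)⁻¹ = sg φ := inv_eq_of_mul_eq_one_left sg_sq
  induction hf using Subgroup.closure_induction with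
  | mem f hf =>
    obtain ⟨L, hL, hf⟩ := hf
    rcases List.mem_append.1 hL with h1 | h1
    · left; exact in_NN h1 hf
    · right
      have h2 : L = muL := by
        have h3 : L ∈ [muL] := h1
        simpa using h3
      rw [h2] at hf
      rw [Acts.ext (φ := φ) hf acts_sg, sg_sq]
      exact one_mem _
  | one => left; exact one_mem _
  | mul f g _ _ hf hg =>
    rcases hf with hf | hf <;> rcases hg with hg | hg
    · left; exact mul_mem hf hg
    · right
      have h1 : sg φ * (f * g) = (sg φ * f * sg φ) * (sg φ * g) := by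
        calc sg φ * (f * g) = sg φ * f * 1 * g := by group
          _ = sg φ * f * (sg φ * sg φ) * g := by rw [sg_sq]
          _ = _ := by group
      rw [h1]
      exact mul_mem (conj_NN hreal hf) hg
    · right
      rw [← mul_assoc]
      exact mul_mem hf hg
    · left
      have h1 : f * g = (sg φ * (sg φ * f) * sg φ) * (sg φ * g) := by
        calc f * g = 1 * f * 1 * g := by group
          _ = (sg φ * sg φ) * f * (sg φ * sg φ) * g := by rw [sg_sq]
          _ = _ := by group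
      rw [h1]
      exact mul_mem (conj_NN hreal hf) hg
  | inv f _ hf =>
    rcases hf with hf | hf
    · left; exact inv_mem hf
    · right
      have h1 : sg φ * f⁻¹ = sg φ * (sg φ * f)⁻¹ * sg φ := by
        rw [mul_inv_rev, hi]
        calc sg φ * f⁻¹ = sg φ * f⁻¹ * 1 := by group
          _ = sg φ * f⁻¹ * (sg φ * sg φ) := by rw [sg_sq]
          _ = _ := by group
      rw [h1]
      exact conj_NN hreal (inv_mem hf)

end

/-- **`H = S₃ × A₅`** -/
theorem H_le [Finite G] (hG : ∀ H : Subgroup G, H.index ≠ 2) (p : Pair Q z A a) (φ : Coord p.lz)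
    (hc : IsConf p φ confOminus) : p.H ≤ NN φ := by
  have hrealH : ∀ L ∈ gensN, In φ p.H L := by
    intro L hL
    rcases List.mem_append.1 hL with h1 | h1
    · obtain ⟨f, hf, hf'⟩ := hc.X L h1
      exact ⟨f, p.X_le_H hf, hf'⟩
    · exact hc.N L h1
  have hreal : ∀ L ∈ gensN, ∃ f, Acts φ L f := fun L hL => by
    obtain ⟨f, -, hf⟩ := hrealH L hL
    exact ⟨f, hf⟩
  have hcos : ∀ f ∈ p.H, f ∈ NN φ ∨ sg φ * f ∈ NN φ := fun f hf => coset hreal (hc.le hf)
  have hNH : NN φ ≤ p.H := by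
    rw [NN, Subgroup.closure_le]
    rintro f ⟨L, hL, hf⟩
    obtain ⟨g, hg, hg'⟩ := hrealH L hL
    rw [Acts.ext (φ := φ) hf hg']
    exact hg
  by_cases hsN : sg φ ∈ NN φ
  · intro f hf
    rcases hcos f hf with h1 | h1
    · exact h1
    · have := mul_mem (inv_mem hsN) h1
      rwa [inv_mul_cancel_left] at this
  -- the vectors of `orb`
  have hz : ∀ c : ZMod 2, c = 0 ∨ c = 1 := by decide
  have hb : ∀ n m, p.lz.b (cv φ n) (cv φ m) = if bN n m = true then 1 else 0 := fun n m => b_cv n m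
  have hva : p.va = cv φ 1 := by
    apply φ.e.injective
    rw [hc.va, e_cv]
  have horb : ∀ c : Subgroup.centralizer ({z} : Set G), ∀ n ∈ orb, ∃ m ∈ orb, Mp φ (p.lz.act c) n m := by
    intro c n hn
    obtain ⟨w, -, -, h1, h2⟩ := c_ow n hn
    obtain ⟨f, ⟨c', rfl⟩, hf⟩ : In φ p.H (prodL (w.2.map fun i => gensN.getD i [])) :=
      In.prod fun L hL => hrealH L (h2 L hL)
    have h3 : p.lz.act c' p.va = cv φ n := by
      apply φ.e.injective
      rw [acts_code hf hc.va, h1, e_cv]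
    have h4 : p.lz.act (c * c') p.va = p.lz.act c (cv φ n) := by
      rw [map_mul, LinearEquiv.mul_apply, h3]
    have h5 : p.lz.act (c * c') p.va = p.lz.pr (p.lz.conjQ (c * c') ⟨a, p.a_mem⟩) := p.lz.act_pr _ _
    obtain ⟨g, hg, -⟩ := p.isConj
    have h6 : IsConj z ((p.lz.conjQ (c * c') ⟨a, p.a_mem⟩ : Q) : G) := by
      rw [Large.conjQ_coe]
      refine isConj_iff.2 ⟨(c * c' : Subgroup.centralizer ({z} : Set G)) * g, ?_⟩
      have : ((c * c' : Subgroup.centralizer ({z} : Set G)) : G) * g * z *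
          (((c * c' : Subgroup.centralizer ({z} : Set G)) : G) * g)⁻¹ =
          ((c * c' : Subgroup.centralizer ({z} : Set G)) : G) * (g * z * g⁻¹) *
          ((c * c' : Subgroup.centralizer ({z} : Set G)) : G)⁻¹ := by group
      rw [this, hg]
    have h7 : p.lz.pr (p.lz.conjQ (c * c') ⟨a, p.a_mem⟩) ≠ 0 := by
      rw [← h5]
      intro h8
      exact p.va_ne ((p.lz.act (c * c')).map_eq_zero_iff.1 h8)
    obtain ⟨m, hm, hm'⟩ := LargeExtra.KillNine.PtsOminus.pts p φ hc _ h6 h7
    refine ⟨m, hm, ?_⟩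
    show p.lz.act c (cv φ n) = cv φ m
    apply φ.e.injective
    rw [← h4, h5, hm', e_cv]
  have F : KF p.lz (NN φ) (sg φ) (cv φ 12) (cv φ 192) (cv φ 17) := by
    refine
      { card_V := ?_, q_v := ?_, q_w := ?_, b_vw := ?_, v_ne := ?_, w_ne := ?_, vw_ne := ?_,
        H_le := fun c => hcos _ ⟨c, rfl⟩, sigma_def := sg_def, sigma_not := hsN, odd := ?_, q_β := ?_,
        β_mem := ?_, small := ?_, fus := ?_ }
    · rw [Nat.card_congr φ.e.toEquiv, Nat.card_eq_fintype_card]
      decide +kernel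
    · rw [φ.q, e_cv]; decide +kernel
    · rw [φ.q, e_cv]; decide +kernel
    · rw [hb]; rfl
    · rw [← cv_zero (φ := φ)]
      intro h1
      have := cv_inj (φ := φ) (by norm_num) (by norm_num) h1
      omega
    · rw [← cv_zero (φ := φ)]
      intro h1
      have := cv_inj (φ := φ) (by norm_num) (by norm_num) h1
      omega
    · intro h1
      have := cv_inj (φ := φ) (by norm_num) (by norm_num) h1
      omega
    · obtain ⟨h1, h2, h3, h4⟩ := c_w3
      obtain ⟨f, ⟨c, rfl⟩, hf⟩ : In φ p.H (prodL (w3.map fun i => gensN.getD i [])) :=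
        In.prod fun L hL => hrealH L (h4 L hL)
      refine ⟨c, ?_, ?_, ?_⟩
      · have h5 := Acts.mul (Acts.mul hf hf) hf
        rw [h1] at h5
        rw [mul_assoc]
        exact Acts.ext (φ := φ) h5 Acts.one
      · apply φ.e.injective
        rw [acts_code hf (e_cv 12), h2, e_cv]
      · apply φ.e.injective
        rw [acts_code hf (e_cv 192), h3, map_add, e_cv, e_cv, ← vec_xor]
        rfl
    · rw [φ.q, e_cv]; decide +kernel
    · exact ⟨by rw [hb]; rfl, by rw [hb]; rfl⟩
    · intro c hcT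
      apply small_aux (φ := φ) (p.lz.b_act c) (horb c)
      intro i hi
      obtain ⟨h1, h2, h3, -⟩ := c_P i hi
      apply hcT
      · exact ⟨by rw [hb, h1]; rfl, by rw [hb, h2]; rfl⟩
      · rw [hb, h3]; rfl
    · intro x hx
      by_cases hx0 : p.lz.pr x = 0
      · rw [hx0, ← cv_zero (φ := φ)]
        refine ⟨fun h1 => ?_, fun h1 => ?_, fun h1 => ?_⟩
        · have := cv_inj (φ := φ) (by norm_num) (by norm_num) h1
          omega
        · have := cv_inj (φ := φ) (by norm_num) (by norm_num) h1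
          omega
        · rw [← cv_add] at h1
          have := cv_inj (φ := φ) (by norm_num) (by decide) h1
          revert this; decide
      · obtain ⟨m, hm, hm'⟩ := LargeExtra.KillNine.PtsOminus.pts p φ hc x hx hx0
        obtain ⟨h1, -, h2, h3, h4⟩ := c_orb m hm
        have h5 : p.lz.pr x = cv φ m := by
          apply φ.e.injective
          rw [hm', e_cv]
        rw [h5]
        refine ⟨fun h6 => ?_, fun h6 => ?_, fun h6 => ?_⟩
        · exact h2 (cv_inj (φ := φ) h1 (by norm_num) h6)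
        · exact h3 (cv_inj (φ := φ) h1 (by norm_num) h6)
        · rw [← cv_add] at h6
          exact h4 (cv_inj (φ := φ) h1 (by norm_num) h6)
  have hns := KillTwo.sigma_not hG F
  intro f hf
  rcases hcos f hf with h1 | h1
  · exact h1
  · exfalso
    apply hns
    have h2 : sg φ = (sg φ * f) * f⁻¹ := by group
    rw [h2]
    exact p.H.mul_mem (hNH h1) (p.H.inv_mem hf)

end Cfsg.Agent.TypeO8Minus.KillFacts
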