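import Cfsg.Agent.TypeO8Minus.CentC
import Cfsg.Agent.TypeO8Minus.KillFacts
import Cfsg.Agent.TypeOMinusEight.Data

/-!
# The centralizer of `z` of type `Ω₈⁻(2)` is generated by `t w r k n z s` (helper43)
-/

set_option autoImplicit false
set_option maxRecDepth 100000

namespace Cfsg.Agent.TypeO8Minus.CentAll

open Cfsg.Agent.Co2Type.Quad Cfsg.Agent.LargeExtra.Base Cfsg.Agent.LargeExtra.Nine
open Cfsg.Agent.TypeO8Minus.Rel Cfsg.Agent.TypeO8Minus.CentC
open Cfsg.Agent.TypeOMinusEight.Data Cfsg.Agent.TypeOMinusEight.Code Cfsg.Agent.TypeOMinusEight.Words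
open Cfsg.Agent.SporadicRecognition.CosetCert

variable {G : Type*} [Group G] {Q A : Subgroup G} {z a : G}

theorem card_Q {h : Large Q z} (φ : Coord h) : Nat.card Q = 2 ^ 9 := by
  have h1 : Nat.card h.V = 256 := by
    rw [Nat.card_congr φ.e.toEquiv, Nat.card_eq_fintype_card]
    decide +kernel
  have h2 := h.card_eq
  rw [h1] at h2
  omega

/-- `Q` lies in the group generated by the letters -/
theorem Q_le [Finite Q] {t w r k n s : G} (h : Large Q z) (R : RelsC t w r k n z s) (hc : Nat.card Q = 2 ^ 9)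
    (hs : s ∈ Q) : Q ≤ Subgroup.closure ({t, w, r, k, n, z, s} : Set G) := by
  intro x hx
  have hlet : ∀ y, y < 8 → lt t w r k n z s 1 y ∈ Subgroup.closure ({t, w, r, k, n, z, s} : Set G) := by
    intro y hy
    have H : ∀ y ∈ ({t, w, r, k, n, z, s} : Set G), y ∈ Subgroup.closure ({t, w, r, k, n, z, s} : Set G) :=
      fun y hy => Subgroup.subset_closure hy
    interval_cases y
    · exact H _ (by simp [lt])
    · exact H _ (by simp [lt])
    · exact H _ (by simp [lt])
    · exact Subgroup.inv_mem _ (H r (by simp))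
    · exact H _ (by simp [lt])
    · exact H _ (by simp [lt])
    · exact H _ (by simp [lt])
    · exact H _ (by simp [lt])
  have hev : ∀ u : List ℕ, (∀ y ∈ u, y < 8) →
      ev (lt t w r k n z s 1) u ∈ Subgroup.closure ({t, w, r, k, n, z, s} : Set G) := by
    intro u
    induction u with
    | nil => intro _; exact Subgroup.one_mem _
    | cons y u ih =>
      intro hu
      rw [ev_cons]
      exact Subgroup.mul_mem _ (hlet y (hu y (by simp))) (ih fun y' hy' => hu y' (by simp [hy']))
  have hf : ∀ i < 8, fQ t w r k n z s i ∈ Subgroup.closure ({t, w, r, k, n, z, s} : Set G) := by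
    intro i hi
    apply hev
    have : ∀ i < 8, ∀ y ∈ wQ i, y < 8 := by decide
    exact this i hi
  have hz : z ∈ Subgroup.closure ({t, w, r, k, n, z, s} : Set G) := Subgroup.subset_closure (by simp)
  obtain ⟨c, -, h1 | h1⟩ := code_Q h R hc hs hx
  · rw [h1]; exact io_mem hf c
  · rw [h1]; exact Subgroup.mul_mem _ (io_mem hf c) hz

/-- **The centralizer.** -/
theorem cent_le [Finite G] (hG : ∀ H : Subgroup G, H.index ≠ 2) (p : Pair Q z A a) (φ : Coord p.lz)
    (hc : IsConf p φ confOminus) :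
    ∃ t w r k n s, Out Q A z a t w r k n s ∧
      ∀ c, c * z = z * c → c ∈ Subgroup.closure ({t, w, r, k, n, z, s} : Set G) := by
  obtain ⟨t, w, r, k, n, s, h, hgen⟩ := main' p φ hc
  refine ⟨t, w, r, k, n, s, h, fun c hcz => ?_⟩
  have hcC : c ∈ Subgroup.centralizer ({z} : Set G) := Subgroup.mem_centralizer_singleton_iff.2 hcz
  have h1 : p.lz.act ⟨c, hcC⟩ ∈ p.H := ⟨_, rfl⟩
  have h2 := KillFacts.H_le hG p φ hc h1
  obtain ⟨c', hc', hQ⟩ := hgen c hcC h2
  have h3 := Q_le p.lz h.rels (card_Q φ) h.s_mem hQ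
  have h4 : c' ∈ Subgroup.closure ({t, w, r, k, n, z, s} : Set G) := by
    refine Subgroup.closure_mono ?_ hc'
    intro x hx
    simp only [Set.mem_insert_iff, Set.mem_singleton_iff] at hx ⊢
    tauto
  have h5 := Subgroup.mul_mem _ h4 h3
  rwa [mul_inv_cancel_left] at h5

end Cfsg.Agent.TypeO8Minus.CentAll
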