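import Cfsg.Agent.LargeExtra.KillNine.Codes
import Cfsg.Agent.LargeExtra.KillNine.EGroup
import Cfsg.Agent.LargeExtra.ActsLib

/-!
# Explicit coordinates `XG B8 8 →* G` of `Q` for the configurations of `Nine.Iface` (helper43)

`X8 = XG B8 8` is the extraspecial group `2₊^(1+8)` on codes `< 256` with signs, adapted to the quadratic form `qs`.

* `exists_qc`: coordinates `φ : Coord h` lift to an embedding `ι : X8 →* G` with image `Q` and `ι zz = z`;
* `QC.exists_lift`: if the matrix `L` is realised by `f ∈ H` and `α` is an automorphism of `X8` inducing `L`, then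
  some `c ∈ C(z)` over `f` acts on `Q` exactly as `α`;
* `QC.eq_or`, `QC.odd_lift`, `QC.eq_of_odd`, `QC.comm_of_odd`: uniqueness up to `z`, and of odd order;
* `mem_A`: `c ∈ C(z)` over an element of `p.X` with `[c, D] ≤ ⟨a⟩` is in `A` (if `D` is maximal).
-/

set_option autoImplicit false
set_option maxRecDepth 100000

namespace Cfsg.Agent.TypeO8Minus.QCoord

open Cfsg.Agent.LargeExtra Cfsg.Agent.Co2Type.Quad Cfsg.Agent.LargeExtra.Base Cfsg.Agent.LargeExtra.Nine
open Cfsg.Agent.LargeExtra.KillNine.Codes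
open Cfsg.Agent.LargeExtra.Model (XG)
open Cfsg.Agent.LargeExtra.Pres (zp prd Good autOf autOf_q aut_ext)

/-- the cocycle -/
def B8 (i : ℕ) : ℕ := [0, 0, 0, 0, 1, 2, 4, 8].getD i 0

/-- `2₊^(1+8)` -/
abbrev X8 : Type := XG B8 8

theorem tri8 : Cfsg.Agent.LargeExtra.Pres.Tri B8 8 := by decide

theorem nd8 : Cfsg.Agent.LargeExtra.Model.Nondeg B8 8 := by decide +kernel

/-- the central involution -/
abbrev z8 : X8 := Cfsg.Agent.LargeExtra.Model.zz

/-- the generators -/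
abbrev q8 (i : Fin 8) : X8 := Cfsg.Agent.LargeExtra.Pres.q B8 8 i

/-- an element of `X8` -/
def el (c : ℕ) (hc : c < 256) (s : Bool) : X8 := ⟨⟨c, hc⟩, s⟩

variable {G : Type*} [Group G] {Q : Subgroup G} {z : G}

/-- the polar form in coordinates -/
theorem b_eq {h : Large Q z} (φ : Coord h) (v w : h.V) : h.b v w = bs (φ.e v) (φ.e w) := by
  have h1 := h.q_add' v w
  rw [φ.q, φ.q, φ.q, map_add] at h1
  have h2 : qs (φ.e v + φ.e w) = qs (φ.e v) + qs (φ.e w) + bs (φ.e v) (φ.e w) := by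
    simp only [qs, bs, Pi.add_apply]
    ring
  rw [h2] at h1
  exact (add_left_cancel h1).symm

/-- exact coordinates of `Q` -/
structure QC (h : Large Q z) (φ : Coord h) (ι : X8 →* G) : Prop where
  inj : Function.Injective ι
  zz : ι z8 = z
  pr : ∀ x : X8, ∃ hx : ι x ∈ Q, φ.e (h.pr ⟨ι x, hx⟩) = vec x.v.1
  surj : ∀ q ∈ Q, ∃ x, ι x = q

theorem exists_qc (h : Large Q z) (φ : Coord h) (a : Q) (ha : φ.e (h.pr a) = vec 1) :
    ∃ ι : X8 →* G, QC h φ ι ∧ ι (q8 0) = a := by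
  classical
  -- lifts of the basis
  have hl : ∀ i : ℕ, ∃ x : Q, φ.e (h.pr x) = vec (2 ^ i) ∧ (i = 0 → x = a) := by
    intro i
    rcases Nat.eq_zero_or_pos i with rfl | hi
    · exact ⟨a, ha, fun _ => rfl⟩
    · obtain ⟨x, hx⟩ := h.pr_surjective (φ.e.symm (vec (2 ^ i)))
      exact ⟨x, by rw [hx, φ.e.apply_symm_apply], fun h0 => absurd h0 hi.ne'⟩
  choose x hx hx0 using hl
  have hz8 : ∀ b : Bool, b = decide ((if b then (1 : ZMod 2) else 0) = 1) := by decide
  have hsq : ∀ i < 8, qs (vec (2 ^ i)) = if (B8 i).testBit i then 1 else 0 := by decide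
  have hbs : ∀ i < 8, ∀ j < i, bs (vec (2 ^ i)) (vec (2 ^ j)) = if (B8 i).testBit j then 1 else 0 := by
    decide
  have rels : Cfsg.Agent.LargeExtra.Pres.Rels B8 8 z (fun i => (x i : G)) := by
    refine ⟨h.z_sq, fun i _ => h.comm_z _ (x i).2, fun i hi => ?_, fun i hi j hj => ?_⟩
    · have h1 := hsq i hi
      rw [← hx i, ← φ.q] at h1
      cases hb : (B8 i).testBit i
      · rw [hb] at h1
        simp only [zp, Bool.false_eq_true, if_false] at h1 ⊢
        exact h.q_eq_zero.1 h1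
      · rw [hb] at h1
        simp only [zp, if_true] at h1 ⊢
        exact h.q_eq_one.1 h1
    · have h1 := hbs i hi j hj
      rw [← hx i, ← hx j, ← b_eq φ] at h1
      cases hb : (B8 i).testBit j
      · rw [hb] at h1
        simp only [zp, Bool.false_eq_true, if_false, one_mul] at h1 ⊢
        exact (h.b_pr _ _).1 h1
      · rw [hb] at h1
        simp only [zp, if_true] at h1 ⊢
        rw [(h.b_pr_one _ _).1 h1]
        exact h.comm_z _ (Q.mul_mem (x j).2 (x i).2)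
  let ι : X8 →* G := Cfsg.Agent.LargeExtra.Pres.lift rels tri8
  have hq : ∀ i : Fin 8, ι (q8 i) = x i.1 := fun i => Cfsg.Agent.LargeExtra.Pres.lift_q rels tri8 i
  have hzz : ι z8 = z := Cfsg.Agent.LargeExtra.Pres.lift_zz rels tri8
  have hmem : ∀ y, ι y ∈ Q := by
    have h1 : (⊤ : Subgroup X8) ≤ Q.comap ι := by
      rw [← Cfsg.Agent.LargeExtra.Pres.closure_q B8 8, Subgroup.closure_le]
      rintro _ (rfl | ⟨i, rfl⟩)
      · show ι z8 ∈ Q
        rw [hzz]; exact h.z_mem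
      · show ι (q8 i) ∈ Q
        rw [hq]; exact (x i.1).2
    exact fun y => h1 (Subgroup.mem_top y)
  have hpr : ∀ y : X8, φ.e (h.pr ⟨ι y, hmem y⟩) = vec y.v.1 := by
    let f1 : X8 →* Multiplicative F8 :=
      { toFun := fun y => Multiplicative.ofAdd (φ.e (h.pr ⟨ι y, hmem y⟩))
        map_one' := by
          have : (⟨ι 1, hmem 1⟩ : Q) = 1 := Subtype.ext (map_one ι)
          rw [this, h.pr_one, map_zero]; rfl
        map_mul' := fun y y' => by
          have : (⟨ι (y * y'), hmem (y * y')⟩ : Q) = ⟨ι y, hmem y⟩ * ⟨ι y', hmem y'⟩ :=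
            Subtype.ext (map_mul ι y y')
          rw [this, h.pr_mul, map_add]; rfl }
    let f2 : X8 →* Multiplicative F8 :=
      { toFun := fun y => Multiplicative.ofAdd (vec y.v.1)
        map_one' := by
          show Multiplicative.ofAdd (vec 0) = _
          rw [vec_zero]; rfl
        map_mul' := fun y y' => by
          rw [Cfsg.Agent.LargeExtra.Model.mul_v, vec_xor]; rfl }
    have h12 : f1 = f2 := by
      apply Cfsg.Agent.LargeExtra.Pres.hom_ext
      · show Multiplicative.ofAdd (φ.e (h.pr ⟨ι z8, hmem z8⟩)) = Multiplicative.ofAdd (vec 0)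
        have : h.pr ⟨ι z8, hmem z8⟩ = 0 := h.pr_eq_zero.2 (Or.inr hzz)
        rw [this, map_zero, vec_zero]
      · intro i
        show Multiplicative.ofAdd (φ.e (h.pr ⟨ι (q8 i), hmem (q8 i)⟩)) =
          Multiplicative.ofAdd (vec (2 ^ i.1))
        have : (⟨ι (q8 i), hmem (q8 i)⟩ : Q) = x i.1 := Subtype.ext (hq i)
        rw [this, hx]
    intro y
    have := DFunLike.congr_fun h12 y
    exact Multiplicative.ofAdd.injective this
  refine ⟨ι, ⟨Cfsg.Agent.LargeExtra.Pres.lift_injective rels tri8 nd8 h.z_ne, hzz,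
    fun y => ⟨hmem y, hpr y⟩, ?_⟩, ?_⟩
  · intro q hq'
    obtain ⟨n, hn, hnv⟩ := exists_code (φ.e (h.pr ⟨q, hq'⟩))
    have h1 : h.pr ⟨q, hq'⟩ = h.pr ⟨ι (el n hn false), hmem _⟩ := by
      apply φ.e.injective
      rw [hpr, hnv]; rfl
    rcases h.pr_eq_pr.1 h1 with h2 | h2
    · exact ⟨_, h2.symm⟩
    · refine ⟨el n hn false * z8, ?_⟩
      rw [map_mul, hzz]
      exact h2.symm
  · show ι (q8 0) = a
    rw [hq, ← hx0 0 rfl]; rfl

namespace QC

variable {h : Large Q z} {φ : Coord h} {ι : X8 →* G}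

theorem mem (c : QC h φ ι) (x : X8) : ι x ∈ Q := (c.pr x).1

theorem pr_eq (c : QC h φ ι) (x : X8) : φ.e (h.pr ⟨ι x, c.mem x⟩) = vec x.v.1 := (c.pr x).2

/-- an element acting trivially is in `⟨z⟩` -/
theorem ker (c : QC h φ ι) {g : G} (hg : ActsLib.Acts ι g 1) : g = 1 ∨ g = z := by
  have h1 : ∀ x ∈ Q, g * x = x * g := by
    intro x hx
    obtain ⟨y, rfl⟩ := c.surj x hx
    exact hg.comm rfl
  have hgz : g * z = z * g := h1 z h.z_mem
  exact h.cent g (h.self g hgz h1) h1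

theorem comm_z (c : QC h φ ι) {g : G} {α : MulAut X8} (hg : ActsLib.Acts ι g α) : g * z = z * g := by
  have h1 := hg.comm (Cfsg.Agent.LargeExtra.Pres.aut_zz nd8 α)
  rwa [show ι Cfsg.Agent.LargeExtra.Model.zz = z from c.zz] at h1

theorem acts_z (c : QC h φ ι) : ActsLib.Acts ι z 1 := by
  intro x
  rw [h.comm_z _ (c.mem x) |>.symm, mul_inv_cancel_right]; rfl

theorem eq_or (c : QC h φ ι) {a b : G} {α : MulAut X8} (ha : ActsLib.Acts ι a α)
    (hb : ActsLib.Acts ι b α) : a = b ∨ a = z * b := by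
  have h1 : ActsLib.Acts ι (a * b⁻¹) 1 := by
    have := ha.mul hb.inv
    rwa [mul_inv_cancel] at this
  rcases c.ker h1 with h2 | h2
  · left; exact mul_inv_eq_one.mp h2
  · right; exact mul_inv_eq_iff_eq_mul.mp h2

theorem z_mul_cube (c : QC h φ ι) {b : G} {α : MulAut X8} (hb : ActsLib.Acts ι b α) :
    (z * b) ^ 3 = z * b ^ 3 := by
  have hc : Commute z b := (c.comm_z hb).symm
  rw [hc.mul_pow, pow_succ z 2, pow_two, h.z_sq, one_mul]

/-- an automorphism of order 3 induced by an element is induced by an element of order 3 -/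
theorem odd_lift (c : QC h φ ι) {g : G} {α : MulAut X8} (hg : ActsLib.Acts ι g α) (hα : α ^ 3 = 1) :
    ∃ g' : G, g' ^ 3 = 1 ∧ ActsLib.Acts ι g' α ∧ (g' = g ∨ g' = z * g) := by
  have h1 : ActsLib.Acts ι (g ^ 3) 1 := by rw [← hα]; exact hg.pow 3
  rcases c.ker h1 with h2 | h2
  · exact ⟨g, h2, hg, Or.inl rfl⟩
  · refine ⟨z * g, ?_, ?_, Or.inr rfl⟩
    · rw [c.z_mul_cube hg, h2, h.z_sq]
    · have := c.acts_z.mul hg
      rwa [one_mul] at this

theorem eq_of_odd (c : QC h φ ι) {a b : G} {α : MulAut X8} (ha : a ^ 3 = 1) (hb : b ^ 3 = 1)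
    (h1 : ActsLib.Acts ι a α) (h2 : ActsLib.Acts ι b α) : a = b := by
  rcases c.eq_or h1 h2 with h3 | h3
  · exact h3
  · exfalso
    rw [h3, c.z_mul_cube h2, hb, mul_one] at ha
    exact h.z_ne ha

/-- Two elements, one of them of order 3, commute when their actions commute. -/
theorem comm_of_odd (c : QC h φ ι) {a b : G} {α β : MulAut X8} (ha : a ^ 3 = 1)
    (h1 : ActsLib.Acts ι a α) (h2 : ActsLib.Acts ι b β) (hc : α * β = β * α) : a * b = b * a := by
  have h3 : b * a * b⁻¹ = a := by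
    apply c.eq_of_odd _ ha _ h1
    · rw [conj_pow, ha, mul_one, mul_inv_cancel]
    · have := h1.conj h2
      rwa [← hc, mul_inv_cancel_right] at this
  rw [mul_inv_eq_iff_eq_mul] at h3
  exact h3.symm

/-- existence of lifts with prescribed action -/
theorem exists_lift [Finite Q] (c : QC h φ ι) {f : h.V ≃ₗ[ZMod 2] h.V} (hf : f ∈ h.act.range) {L : List ℕ}
    (hL : Acts φ L f) (I : ℕ → X8) (hI : Good B8 8 I) (hc : ∀ i < 8, (I i).v.1 = L.getD i 0) :
    ∃ (g : G) (hg : g ∈ Subgroup.centralizer ({z} : Set G)), h.act ⟨g, hg⟩ = f ∧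
      ActsLib.Acts ι g (autOf tri8 nd8 I hI) := by
  classical
  obtain ⟨g0, rfl⟩ := hf
  have hg0 : (g0 : G) * z = z * g0 := Subgroup.mem_centralizer_singleton_iff.1 g0.2
  -- the images of the generators under `g0`
  have hval : ∀ i : Fin 8, (g0 : G) * ι (q8 i) * (g0 : G)⁻¹ = ι (I i.1) ∨
      (g0 : G) * ι (q8 i) * (g0 : G)⁻¹ = ι (I i.1) * z := by
    intro i
    have h1 : h.act g0 (h.pr ⟨ι (q8 i), c.mem _⟩) = h.pr ⟨ι (I i.1), c.mem _⟩ := by
      apply φ.e.injective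
      rw [hL, c.pr_eq, c.pr_eq, hc i.1 i.2]
      show lin L (vec (2 ^ i.1)) = vec (L.getD i.1 0)
      rw [← basis_vec i]
      show ∑ j : Fin 8, (Pi.single i 1 : F8) j • vec (L.getD j 0) = _
      rw [Finset.sum_eq_single i]
      · rw [Pi.single_eq_same, one_smul]
      · intro j _ hj
        rw [Pi.single_eq_of_ne hj, zero_smul]
      · intro h; exact absurd (Finset.mem_univ _) h
    rw [h.act_pr, h.pr_eq_pr, h.conjQ_coe] at h1
    exact h1
  let ε : Fin 8 → ZMod 2 := fun i =>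
    if (g0 : G) * ι (q8 i) * (g0 : G)⁻¹ = ι (I i.1) then 0 else 1
  let F : h.V →ₗ[ZMod 2] ZMod 2 :=
    (∑ i : Fin 8, (ε i) • (LinearMap.proj i : F8 →ₗ[ZMod 2] ZMod 2)).comp
      ((φ.e : h.V →ₗ[ZMod 2] F8).comp ((h.act g0).symm : h.V →ₗ[ZMod 2] h.V))
  have hF : ∀ i : Fin 8, F (h.pr ⟨(g0 : G) * ι (q8 i) * (g0 : G)⁻¹, h.conj_mem g0 hg0 _ (c.mem _)⟩) =
      ε i := by
    intro i
    have h1 : (h.act g0).symm (h.pr ⟨(g0 : G) * ι (q8 i) * (g0 : G)⁻¹,
        h.conj_mem g0 hg0 _ (c.mem _)⟩) = h.pr ⟨ι (q8 i), c.mem _⟩ := by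
      rw [LinearEquiv.symm_apply_eq, h.act_pr]; rfl
    show (∑ j : Fin 8, (ε j) • (LinearMap.proj j : F8 →ₗ[ZMod 2] ZMod 2))
      (φ.e ((h.act g0).symm (h.pr _))) = ε i
    rw [h1, c.pr_eq]
    show (∑ j : Fin 8, (ε j) • (LinearMap.proj j : F8 →ₗ[ZMod 2] ZMod 2)) (vec (2 ^ i.1)) = ε i
    rw [← basis_vec i, LinearMap.sum_apply, Finset.sum_eq_single i]
    · simp
    · intro j _ hj
      simp [Pi.single_eq_of_ne hj]
    · intro h; exact absurd (Finset.mem_univ _) h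
  obtain ⟨v, hv⟩ := h.exists_b_eq F
  obtain ⟨u, rfl⟩ := h.pr_surjective v
  have huz : (u : G) * z = z * u := h.comm_z u u.2
  have hgC : (u : G) * g0 ∈ Subgroup.centralizer ({z} : Set G) := by
    rw [Subgroup.mem_centralizer_singleton_iff]
    rw [mul_assoc, hg0, ← mul_assoc, huz, mul_assoc]
  have huC : (u : G) ∈ Subgroup.centralizer ({z} : Set G) :=
    Subgroup.mem_centralizer_singleton_iff.2 huz
  refine ⟨(u : G) * g0, hgC, ?_, ?_⟩
  · rw [show (⟨(u : G) * g0, hgC⟩ : Subgroup.centralizer ({z} : Set G)) = ⟨u, huC⟩ * g0 from rfl,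
      map_mul, h.act_mem ⟨u, huC⟩ u.2, one_mul]
  · -- on generators
    have hgen : ∀ i : Fin 8, (u : G) * g0 * ι (q8 i) * ((u : G) * g0)⁻¹ = ι (I i.1) := by
      intro i
      have h1 := hF i
      rw [← hv] at h1
      have e : (u : G) * g0 * ι (q8 i) * ((u : G) * g0)⁻¹ =
          (u : G) * ((g0 : G) * ι (q8 i) * (g0 : G)⁻¹) * (u : G)⁻¹ := by group
      rw [e]
      by_cases h2 : (g0 : G) * ι (q8 i) * (g0 : G)⁻¹ = ι (I i.1)
      · have h3 : ε i = 0 := if_pos h2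
        rw [h3, h.b_pr] at h1
        have h4 : (u : G) * ((g0 : G) * ι (q8 i) * (g0 : G)⁻¹) =
          ((g0 : G) * ι (q8 i) * (g0 : G)⁻¹) * u := h1
        rw [h4, mul_inv_cancel_right, h2]
      · have h3 : ε i = 1 := if_neg h2
        rw [h3, h.b_pr_one] at h1
        have h4 : (u : G) * ((g0 : G) * ι (q8 i) * (g0 : G)⁻¹) =
          ((g0 : G) * ι (q8 i) * (g0 : G)⁻¹) * u * z := h1
        have h5 := (hval i).resolve_left h2
        rw [h4, h5]
        have h6 : (u : G) * z * (u : G)⁻¹ = z := by rw [huz, mul_inv_cancel_right]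
        calc ι (I i.1) * z * u * z * (u : G)⁻¹ = ι (I i.1) * z * (u * z * (u : G)⁻¹) := by group
          _ = ι (I i.1) * (z * z) := by rw [h6, mul_assoc]
          _ = ι (I i.1) := by rw [h.z_sq, mul_one]
    have hz1 : (u : G) * g0 * z * ((u : G) * g0)⁻¹ = z := by
      rw [Subgroup.mem_centralizer_singleton_iff.1 hgC, mul_inv_cancel_right]
    have key : ι.comp (autOf tri8 nd8 I hI).toMonoidHom =
        (MulAut.conj ((u : G) * g0)).toMonoidHom.comp ι := by
      apply Cfsg.Agent.LargeExtra.Pres.hom_ext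
      · show ι (autOf tri8 nd8 I hI z8) = (u : G) * g0 * ι z8 * ((u : G) * g0)⁻¹
        rw [Cfsg.Agent.LargeExtra.Pres.aut_zz nd8, c.zz, hz1]
      · intro i
        show ι (autOf tri8 nd8 I hI (q8 i)) = (u : G) * g0 * ι (q8 i) * ((u : G) * g0)⁻¹
        rw [hgen, autOf_q]
    intro x
    exact DFunLike.congr_fun key x

end QC

/-- an element of `C(z)` acting on `V` as an element of `X` and with `[c, D] ≤ ⟨a⟩` is in `A` -/
theorem mem_A [Finite G] {A : Subgroup G} {a : G} (p : Pair Q z A a)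
    (hD : Nat.card p.D * Nat.card p.D = Nat.card p.lz.V) {c : G}
    (hc : c ∈ Subgroup.centralizer ({z} : Set G)) (hX : p.lz.act ⟨c, hc⟩ ∈ p.X)
    (hd : ∀ d ∈ Q, d ∈ A → c * d * c⁻¹ = d ∨ c * d * c⁻¹ = d * a) : c ∈ A := by
  obtain ⟨c1, hc1, hact⟩ := p.mem_X.1 hX
  have hu : (c1 : G)⁻¹ * c ∈ Q := by
    refine p.lz.mem_of_act (c1⁻¹ * ⟨c, hc⟩) ?_
    rw [map_mul, map_inv, hact, inv_mul_cancel]
  have hz2 := Local.card_sub p.lz p.z_mem
  have hself : (c1 : G)⁻¹ * c ∈ A := by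
    refine Cfsg.Agent.LargeExtra.KillNine.EGroup.self_perp p.lz p.z_mem
      (fun x hx hxQ y hy hyQ => p.comm_D hxQ hx hyQ hy) (le_of_eq hD.symm) hu ?_
    intro d hdA hdQ
    -- `u d u⁻¹ ∈ {d, d a} ∩ {d, d z}`
    have h1 : (c1 : G)⁻¹ * d * c1 = d ∨ (c1 : G)⁻¹ * d * c1 = d * a := by
      have := p.conj_D hdA (A.inv_mem hc1)
      rwa [inv_inv] at this
    have hca : (c1 : G) * a = a * c1 := p.la.comm_z _ hc1
    have hca' : (c1 : G)⁻¹ * a * c1 = a := by
      rw [mul_assoc, ← hca, inv_mul_cancel_left]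
    have haa := p.la.z_sq
    have h2 : ((c1 : G)⁻¹ * c) * d * ((c1 : G)⁻¹ * c)⁻¹ = d ∨
        ((c1 : G)⁻¹ * c) * d * ((c1 : G)⁻¹ * c)⁻¹ = d * a := by
      have e : ((c1 : G)⁻¹ * c) * d * ((c1 : G)⁻¹ * c)⁻¹ = (c1 : G)⁻¹ * (c * d * c⁻¹) * c1 := by
        group
      rw [e]
      rcases hd d hdQ hdA with h3 | h3 <;> rw [h3]
      · exact h1
      · have e2 : (c1 : G)⁻¹ * (d * a) * c1 = ((c1 : G)⁻¹ * d * c1) * ((c1 : G)⁻¹ * a * c1) := by group
        rw [e2, hca']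
        rcases h1 with h4 | h4 <;> rw [h4]
        · exact Or.inr rfl
        · left; rw [mul_assoc, haa, mul_one]
    rcases p.lz.comm _ hu d hdQ with h3 | h3
    · exact h3
    · exfalso
      have hz : ((c1 : G)⁻¹ * c) * z = z * ((c1 : G)⁻¹ * c) := p.lz.comm_z _ hu
      have hzz : ((c1 : G)⁻¹ * c) * z * ((c1 : G)⁻¹ * c)⁻¹ = z := by
        rw [hz, mul_inv_cancel_right]
      have h4 : ((c1 : G)⁻¹ * c) * d * ((c1 : G)⁻¹ * c)⁻¹ = d * z := by
        have e3 : ((c1 : G)⁻¹ * c) * d * ((c1 : G)⁻¹ * c)⁻¹ =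
            d * (((c1 : G)⁻¹ * c) * z * ((c1 : G)⁻¹ * c)⁻¹) := by
          rw [h3]; group
        rw [e3, hzz]
      rw [h4] at h2
      rcases h2 with h5 | h5
      · exact p.lz.z_ne (mul_eq_left.1 h5)
      · exact p.ne (mul_left_cancel h5).symm
  have := A.mul_mem hc1 hself
  rwa [mul_inv_cancel_left] at this

end Cfsg.Agent.TypeO8Minus.QCoord
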