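import Mathlib
import Cfsg.Agent.SporadicRecognition.CosetChain
import Cfsg.Agent.TypeO8Minus.ELaAll
import Cfsg.Agent.TypeO8Minus.ELbAll
import Cfsg.Agent.TypeO8Minus.ELcAll
import Cfsg.Agent.TypeO8Minus.ELdAll

/-!
A presentation of `Ω₈⁻(2)` on eight letters `t w r | k n | z s | m`: the group generated by any elements
satisfying the relations has order at most `197406720 = 1071 · 512 · 6 · 60`.

In the natural module with basis `e₁ e₂ e₃ f₁ f₂ f₃ g h`: `z = T(e₁,e₂)`, `k = T(e₁,f₂)`, `s = T(e₂,f₃)`,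
`t = T(e₃,g+h)`, `n = (e₁e₂)(f₁f₂)`, `m = (e₂e₃)(f₂f₃)`, `w = (e₃f₃)(gh)`, `r` of order 3 on `⟨g,h⟩`;
`⟨t,w,r⟩ = A₅`, `⟨k,n⟩ = S₃`, `⟨t,w,r,k,n,z,s⟩ = C(z) = 2^{1+8}(S₃ × A₅)`.
-/

set_option autoImplicit false
set_option maxRecDepth 100000

namespace Cfsg.Agent.TypeO8Minus.Rel

open Cfsg.Agent.SporadicRecognition Cfsg.Agent.SporadicRecognition.CosetCert
  Cfsg.Agent.SporadicRecognition.CosetChain

/-- The relations inside the centralizer of `z`. -/
structure RelsC {G : Type*} [Group G] (t w r k n z s : G) : Prop where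
  t2 : t * t = 1
  w2 : w * w = 1
  k2 : k * k = 1
  n2 : n * n = 1
  z2 : z * z = 1
  s2 : s * s = 1
  r3 : r * r * r = 1
  wr : (w * r) ^ 2 = 1
  wt : (w * t) ^ 3 = 1
  tr : (t * r) ^ 3 = 1
  trtr : (t * r⁻¹ * t * r) ^ 2 = 1
  kn : (k * n) ^ 3 = 1
  kt : (k * t) ^ 2 = 1
  kw : (k * w) ^ 2 = 1
  kr : k * r⁻¹ * k * r = 1
  nt : (n * t) ^ 2 = 1
  nw : (n * w) ^ 2 = 1
  nr : n * r⁻¹ * n * r = 1
  zt : (z * t) ^ 2 = 1
  zw : (z * w) ^ 2 = 1
  zr : z * r⁻¹ * z * r = 1
  zk : (z * k) ^ 2 = 1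
  zn : (z * n) ^ 2 = 1
  zs : (z * s) ^ 2 = 1
  sr : s * r⁻¹ * s * r = 1
  ks : k * s * k * s * (n * s * n) = 1
  swt : (s * w * t * w) ^ 2 = 1
  sw : (s * w) ^ 4 = 1
  sn : (s * n) ^ 4 = 1
  five : s * (t * s * t) * (r⁻¹ * t * r * s * r⁻¹ * t * r) * (r * t * r⁻¹ * s * r * t * r⁻¹) *
    (w * s * w) = 1
  zz : (s * n * w * s * w * n) ^ 2 = z

/-- All relations. -/
structure Rels {G : Type*} [Group G] (t w r k n z s m : G) : Prop extends RelsC t w r k n z s where
  m2 : m * m = 1
  sm : (s * m) ^ 3 = 1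
  nm : (n * m) ^ 3 = 1
  mr : m * r⁻¹ * m * r = 1
  ksm : k * s * k * s * (m * k * m) = 1
  wsm : (w * s * w * m) ^ 2 = 1
  mw : (m * w) ^ 4 = 1
  last : m * (s * (t * s * t) * (w * s * w)) * m * t = 1

/-- numbering of the letters -/
def lt {G : Type*} [Group G] (t w r k n z s m : G) : ℕ → G
  | 0 => t
  | 1 => w
  | 2 => r
  | 3 => r⁻¹
  | 4 => k
  | 5 => n
  | 6 => z
  | 7 => s
  | _ => m


section upper

variable {G : Type*} [Group G] {t w r k n z s m : G}

theorem inv_a (h : Rels t w r k n z s m) : ∀ x, x < ELaData.C.k → ELaData.C.inv x < ELaData.C.k ∧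
    lt t w r k n z s m x * lt t w r k n z s m (ELaData.C.inv x) = 1 := by
  intro x hx
  have hx' : x < 9 := hx
  interval_cases x
  · exact ⟨by decide, h.t2⟩
  · exact ⟨by decide, h.w2⟩
  · exact ⟨by decide, mul_inv_cancel r⟩
  · exact ⟨by decide, inv_mul_cancel r⟩
  · exact ⟨by decide, h.k2⟩
  · exact ⟨by decide, h.n2⟩
  · exact ⟨by decide, h.z2⟩
  · exact ⟨by decide, h.s2⟩
  · exact ⟨by decide, h.m2⟩

theorem inv_b (h : Rels t w r k n z s m) : ∀ x, x < ELbData.C.k → ELbData.C.inv x < ELbData.C.k ∧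
    lt t w r k n z s m x * lt t w r k n z s m (ELbData.C.inv x) = 1 := by
  intro x hx
  have hx' : x < 8 := hx
  interval_cases x
  · exact ⟨by decide, h.t2⟩
  · exact ⟨by decide, h.w2⟩
  · exact ⟨by decide, mul_inv_cancel r⟩
  · exact ⟨by decide, inv_mul_cancel r⟩
  · exact ⟨by decide, h.k2⟩
  · exact ⟨by decide, h.n2⟩
  · exact ⟨by decide, h.z2⟩
  · exact ⟨by decide, h.s2⟩

theorem inv_c (h : Rels t w r k n z s m) : ∀ x, x < ELcData.C.k → ELcData.C.inv x < ELcData.C.k ∧
    lt t w r k n z s m x * lt t w r k n z s m (ELcData.C.inv x) = 1 := by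
  intro x hx
  have hx' : x < 6 := hx
  interval_cases x
  · exact ⟨by decide, h.t2⟩
  · exact ⟨by decide, h.w2⟩
  · exact ⟨by decide, mul_inv_cancel r⟩
  · exact ⟨by decide, inv_mul_cancel r⟩
  · exact ⟨by decide, h.k2⟩
  · exact ⟨by decide, h.n2⟩

theorem inv_d (h : Rels t w r k n z s m) : ∀ x, x < ELdData.C.k → ELdData.C.inv x < ELdData.C.k ∧
    lt t w r k n z s m x * lt t w r k n z s m (ELdData.C.inv x) = 1 := by
  intro x hx
  have hx' : x < 4 := hx
  interval_cases x
  · exact ⟨by decide, h.t2⟩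
  · exact ⟨by decide, h.w2⟩
  · exact ⟨by decide, mul_inv_cancel r⟩
  · exact ⟨by decide, inv_mul_cancel r⟩

theorem rels_ev (h : Rels t w r k n z s m) :
    ∀ x ∈ ELaData.rels, ev (lt t w r k n z s m) x = 1 := by
  intro x hx
  simp only [ELaData.rels, List.mem_cons, List.not_mem_nil, or_false] at hx
  rcases hx with rfl | rfl | rfl | rfl | rfl | rfl | rfl | rfl | rfl | rfl | rfl | rfl | rfl | rfl | rfl | rfl | rfl | rfl | rfl | rfl | rfl | rfl | rfl | rfl | rfl | rfl | rfl | rfl | rfl | rfl | rfl | rfl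
  · simpa [ev, lt, pow_succ, mul_assoc] using h.r3
  · simpa [ev, lt, pow_succ, mul_assoc] using h.wr
  · simpa [ev, lt, pow_succ, mul_assoc] using h.kt
  · simpa [ev, lt, pow_succ, mul_assoc] using h.kw
  · simpa [ev, lt, pow_succ, mul_assoc] using h.kr
  · simpa [ev, lt, pow_succ, mul_assoc] using h.nt
  · simpa [ev, lt, pow_succ, mul_assoc] using h.nw
  · simpa [ev, lt, pow_succ, mul_assoc] using h.nr
  · simpa [ev, lt, pow_succ, mul_assoc] using h.zt
  · simpa [ev, lt, pow_succ, mul_assoc] using h.zw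
  · simpa [ev, lt, pow_succ, mul_assoc] using h.zr
  · simpa [ev, lt, pow_succ, mul_assoc] using h.zk
  · simpa [ev, lt, pow_succ, mul_assoc] using h.zn
  · simpa [ev, lt, pow_succ, mul_assoc] using h.zs
  · simpa [ev, lt, pow_succ, mul_assoc] using h.sr
  · simpa [ev, lt, pow_succ, mul_assoc] using h.mr
  · simpa [ev, lt, pow_succ, mul_assoc] using h.wt
  · simpa [ev, lt, pow_succ, mul_assoc] using h.tr
  · simpa [ev, lt, pow_succ, mul_assoc] using h.kn
  · simpa [ev, lt, pow_succ, mul_assoc] using h.sm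
  · simpa [ev, lt, pow_succ, mul_assoc] using h.nm
  · simpa [ev, lt, pow_succ, mul_assoc] using h.ks
  · simpa [ev, lt, pow_succ, mul_assoc] using h.ksm
  · simpa [ev, lt, pow_succ, mul_assoc] using h.trtr
  · simpa [ev, lt, pow_succ, mul_assoc] using h.swt
  · simpa [ev, lt, pow_succ, mul_assoc] using h.sw
  · simpa [ev, lt, pow_succ, mul_assoc] using h.sn
  · simpa [ev, lt, pow_succ, mul_assoc] using h.wsm
  · simpa [ev, lt, pow_succ, mul_assoc] using h.mw
  · simpa [ev, lt, pow_succ, mul_assoc] using h.last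
  · have h1 : (s * n * w * s * w * n) ^ 2 * z = 1 := by rw [h.zz, h.z2]
    simpa [ev, lt, pow_succ, mul_assoc] using h1
  · simpa [ev, lt, pow_succ, mul_assoc] using h.five

theorem card_d (h : Rels t w r k n z s m) :
    Finite (Subgroup.closure (lt t w r k n z s m '' {x | x < 4})) ∧
    Nat.card (Subgroup.closure (lt t w r k n z s m '' {x | x < 4})) ≤ 60 * 1 := by
  have := card_step ELdData.C (lt t w r k n z s m) ELdData.rels [] ⊥ (inv_d h)
    (fun x hx _ => rels_ev h x ((show ∀ x ∈ ELdData.rels, x ∈ ELaData.rels by decide) x hx))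
    (by simp) (by decide +kernel) ELdAll.part inferInstance
  have h1 : Nat.card (⊥ : Subgroup G) = 1 := by simp
  rw [h1] at this
  exact this

theorem card_c (h : Rels t w r k n z s m) :
    Finite (Subgroup.closure (lt t w r k n z s m '' {x | x < 6})) ∧
    Nat.card (Subgroup.closure (lt t w r k n z s m '' {x | x < 6})) ≤ 6 * (60 * 1) := by
  have := card_step ELcData.C (lt t w r k n z s m) ELcData.rels ELcData.subw
    (Subgroup.closure (lt t w r k n z s m '' {x | x < 4})) (inv_c h)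
    (fun x hx _ => rels_ev h x ((show ∀ x ∈ ELcData.rels, x ∈ ELaData.rels by decide) x hx))
    (fun x hx _ => sub_letters _ 4 ELcData.subw (by decide) x hx) (by decide +kernel)
    ELcAll.part (card_d h).1
  exact ⟨this.1, this.2.trans (Nat.mul_le_mul_left _ (card_d h).2)⟩

theorem card_b (h : Rels t w r k n z s m) :
    Finite (Subgroup.closure (lt t w r k n z s m '' {x | x < 8})) ∧
    Nat.card (Subgroup.closure (lt t w r k n z s m '' {x | x < 8})) ≤ 512 * (6 * (60 * 1)) := by
  have := card_step ELbData.C (lt t w r k n z s m) ELbData.rels ELbData.subw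
    (Subgroup.closure (lt t w r k n z s m '' {x | x < 6})) (inv_b h)
    (fun x hx _ => rels_ev h x ((show ∀ x ∈ ELbData.rels, x ∈ ELaData.rels by decide) x hx))
    (fun x hx _ => sub_letters _ 6 ELbData.subw (by decide) x hx) (by decide +kernel)
    ELbAll.part (card_c h).1
  exact ⟨this.1, this.2.trans (Nat.mul_le_mul_left _ (card_c h).2)⟩

theorem card_a (h : Rels t w r k n z s m) :
    Finite (Subgroup.closure (lt t w r k n z s m '' {x | x < 9})) ∧
    Nat.card (Subgroup.closure (lt t w r k n z s m '' {x | x < 9})) ≤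
      1071 * (512 * (6 * (60 * 1))) := by
  have := card_step ELaData.C (lt t w r k n z s m) ELaData.rels ELaData.subw
    (Subgroup.closure (lt t w r k n z s m '' {x | x < 8})) (inv_a h)
    (fun x hx _ => rels_ev h x hx)
    (fun x hx _ => sub_letters _ 8 ELaData.subw (by decide) x hx) (by decide +kernel)
    ELaAll.part (card_b h).1
  exact ⟨this.1, this.2.trans (Nat.mul_le_mul_left _ (card_b h).2)⟩

/-- the set of generators -/
def gens {G : Type*} (t w r k n z s m : G) : Set G := {t, w, r, k, n, z, s, m}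

theorem closure_eq (t w r k n z s m : G) :
    Subgroup.closure (lt t w r k n z s m '' {x | x < 9}) = Subgroup.closure (gens t w r k n z s m) := by
  apply le_antisymm
  · rw [Subgroup.closure_le]
    rintro _ ⟨x, hx, rfl⟩
    have hx' : x < 9 := hx
    have H : ∀ y ∈ gens t w r k n z s m, y ∈ Subgroup.closure (gens t w r k n z s m) :=
      fun y hy => Subgroup.subset_closure hy
    interval_cases x
    · exact H _ (by simp [gens, lt])
    · exact H _ (by simp [gens, lt])
    · exact H _ (by simp [gens, lt])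
    · exact Subgroup.inv_mem _ (H r (by simp [gens]))
    · exact H _ (by simp [gens, lt])
    · exact H _ (by simp [gens, lt])
    · exact H _ (by simp [gens, lt])
    · exact H _ (by simp [gens, lt])
    · exact H _ (by simp [gens, lt])
  · rw [Subgroup.closure_le]
    have H : ∀ x, x < 9 → lt t w r k n z s m x ∈
        Subgroup.closure (lt t w r k n z s m '' {x | x < 9}) :=
      fun x hx => Subgroup.subset_closure ⟨x, hx, rfl⟩
    intro y hy
    simp only [gens, Set.mem_insert_iff, Set.mem_singleton_iff] at hy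
    rcases hy with rfl | rfl | rfl | rfl | rfl | rfl | rfl | rfl
    · exact H 0 (by norm_num)
    · exact H 1 (by norm_num)
    · exact H 2 (by norm_num)
    · exact H 4 (by norm_num)
    · exact H 5 (by norm_num)
    · exact H 6 (by norm_num)
    · exact H 7 (by norm_num)
    · exact H 8 (by norm_num)

/-- **The order of a group with these relations is at most `|Ω₈⁻(2)| = 197406720`.** -/
theorem card_closure_le (h : Rels t w r k n z s m) :
    Finite (Subgroup.closure (gens t w r k n z s m)) ∧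
    Nat.card (Subgroup.closure (gens t w r k n z s m)) ≤ 197406720 := by
  rw [← closure_eq]
  exact ⟨(card_a h).1, (card_a h).2.trans (by norm_num)⟩

end upper

end Cfsg.Agent.TypeO8Minus.Rel
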