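import Cfsg.Agent.LargeExtra.KillNine.PtsOminus
import Cfsg.Agent.TypeO8Minus.QCoord
import Cfsg.Agent.TypeO8Minus.Rel

/-!
# The centralizer `2₊^(1+8):(S₃ × A₅)` of type `Ω₈⁻(2)` (helper43)

From a pair with `IsConf p φ confOminus` elements `t w r k n s` satisfying `RelsC t w r k n z s`.
In the natural module with basis `e₁ e₂ e₃ f₁ f₂ f₃ g h`: `z = T(e₁,e₂)`, `a = T(e₁,e₃)`, `k = T(e₁,f₂)`,
`s = T(e₂,f₃)`, `t = T(e₃,g+h)`, `n = (e₁e₂)(f₁f₂)`, `w = (e₃f₃)(gh)`, `r` of order 3 on `⟨g,h⟩`.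
-/

set_option autoImplicit false
set_option maxRecDepth 100000

namespace Cfsg.Agent.TypeO8Minus.CentC

open Cfsg.Agent.LargeExtra Cfsg.Agent.Co2Type.Quad Cfsg.Agent.LargeExtra.Base Cfsg.Agent.LargeExtra.Nine
open Cfsg.Agent.LargeExtra.KillNine.Codes
open Cfsg.Agent.LargeExtra.Model (XG)
open Cfsg.Agent.LargeExtra.Pres (zp prd Good autOf autOf_q aut_ext)
open Cfsg.Agent.TypeO8Minus.QCoord Cfsg.Agent.TypeO8Minus.Rel

/-- elements of `X8` -/
def mk (c : ℕ) (s : Bool) : X8 := ⟨⟨c % 2 ^ 8, Nat.mod_lt _ (by norm_num)⟩, s⟩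

/-- images of the generators -/
def im (l : List (ℕ × Bool)) (i : ℕ) : X8 := (l.map fun p => mk p.1 p.2).getD i 1

def tI : ℕ → X8 := im [(1, false), (2, false), (4, false), (9, false), (144, true), (36, true), (66, false),
  (128, false)]
def wI : ℕ → X8 := im [(231, true), (80, true), (176, false), (93, true), (144, true), (20, true),
  (146, false), (128, false)]
def rI : ℕ → X8 := im [(1, false), (2, false), (9, false), (15, false), (144, true), (111, false),
  (192, true), (66, false)]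
def kI : ℕ → X8 := im [(1, false), (3, false), (5, false), (9, false), (252, true), (44, true), (75, true),
  (135, true)]
def nI : ℕ → X8 := im [(3, false), (2, false), (134, false), (74, false), (16, false), (240, true),
  (64, false), (128, false)]

/-- the matrices -/
def tL : List ℕ := [1, 2, 4, 9, 144, 36, 66, 128]
def wL : List ℕ := [231, 80, 176, 93, 144, 20, 146, 128]
def rL : List ℕ := [1, 2, 9, 15, 144, 111, 192, 66]
def kL : List ℕ := [1, 3, 5, 9, 252, 44, 75, 135]
def nL : List ℕ := [3, 2, 134, 74, 16, 240, 64, 128]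

theorem good_t : Good B8 8 tI := by decide +kernel
theorem good_w : Good B8 8 wI := by decide +kernel
theorem good_r : Good B8 8 rI := by decide +kernel
theorem good_k : Good B8 8 kI := by decide +kernel
theorem good_n : Good B8 8 nI := by decide +kernel

noncomputable def αt : MulAut X8 := autOf tri8 nd8 tI good_t
noncomputable def αw : MulAut X8 := autOf tri8 nd8 wI good_w
noncomputable def αr : MulAut X8 := autOf tri8 nd8 rI good_r
noncomputable def αk : MulAut X8 := autOf tri8 nd8 kI good_k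
noncomputable def αn : MulAut X8 := autOf tri8 nd8 nI good_n

theorem a_t2 : αt * αt = 1 := aut_ext nd8 (by decide +kernel)
theorem a_w2 : αw * αw = 1 := aut_ext nd8 (by decide +kernel)
theorem a_k2 : αk * αk = 1 := aut_ext nd8 (by decide +kernel)
theorem a_n2 : αn * αn = 1 := aut_ext nd8 (by decide +kernel)
theorem a_r3 : αr * αr * αr = 1 := aut_ext nd8 (by decide +kernel)
theorem a_tr : αt * αr * (αt * αr) * (αt * αr) = 1 := aut_ext nd8 (by decide +kernel)
theorem a_wt : αw * αt * (αw * αt) * (αw * αt) = 1 := aut_ext nd8 (by decide +kernel)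
theorem a_kn : αk * αn * (αk * αn) * (αk * αn) = 1 := aut_ext nd8 (by decide +kernel)
theorem a_wr : αw * αr * (αw * αr) = 1 := aut_ext nd8 (by decide +kernel)
theorem a_tu : αt * (αr * αr * αt * αr) * (αt * (αr * αr * αt * αr)) = 1 :=
  aut_ext nd8 (by decide +kernel)
theorem a_kt : αk * αt = αt * αk := aut_ext nd8 (by decide +kernel)
theorem a_kr : αk * αr = αr * αk := aut_ext nd8 (by decide +kernel)
theorem a_kw : αk * αw = αw * αk := aut_ext nd8 (by decide +kernel)
theorem a_nt : αn * αt = αt * αn := aut_ext nd8 (by decide +kernel)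
theorem a_nr : αn * αr = αr * αn := aut_ext nd8 (by decide +kernel)
theorem a_nw : αn * αw = αw * αn := aut_ext nd8 (by decide +kernel)

/-- the element `s` -/
def σ : X8 := mk 183 false

theorem s_sq : σ * σ = 1 := by decide +kernel
theorem s_r : αr σ = σ := by decide +kernel
theorem s_ks : αk σ * σ * αn σ = 1 := by decide +kernel
theorem s_swt : αw (αt (αw σ)) = σ := by decide +kernel
theorem s_sw : σ * αw σ * (σ * αw σ) = 1 := by decide +kernel
theorem s_sn : σ * αn σ * (σ * αn σ) = 1 := by decide +kernel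
theorem s_five : σ * αt σ * αr (αr (αt (αr σ))) * αr (αt (αr (αr σ))) * αw σ = 1 := by decide +kernel
theorem s_zz : σ * αn (αw σ) * (σ * αn (αw σ)) = z8 := by decide +kernel
theorem s_a : αw (αn σ) = q8 0 := by decide +kernel
theorem s_e : (αw σ).v.1 < 16 := by decide +kernel
theorem s_d : (αn (σ * αt σ * αw σ)).v.1 < 16 := by decide +kernel

theorem r_a : αr (q8 0) = q8 0 := by decide +kernel

theorem t_D : ∀ (c : Fin 16) (b : Bool), αt (mk c b) = mk c b ∨ αt (mk c b) = mk c b * q8 0 := by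
  decide +kernel
theorem k_D : ∀ (c : Fin 16) (b : Bool), αk (mk c b) = mk c b ∨ αk (mk c b) = mk c b * q8 0 := by
  decide +kernel

/-- the automorphisms, numbered -/
noncomputable def αs : ℕ → MulAut X8
  | 0 => αt
  | 1 => αw
  | 2 => αr
  | 3 => αk
  | _ => αn

def wds : List (List ℕ) := [[], [0], [1], [3], [4], [2, 0], [3, 0], [4, 0], [3, 1], [4, 1], [0, 2, 0],
  [3, 2, 0], [4, 2, 0], [3, 0, 2, 0], [4, 0, 2, 0]]

theorem wds_orb : ∀ n ∈ KillNine.PtsOminus.orb, ∃ l ∈ wds, (((l.map αs).prod) σ).v.1 = n := by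
  decide +kernel

/-- the matrices are realised -/
theorem tL_eq : prodL [[1,2,4,9,144,36,66,128]] = tL := by decide +kernel
theorem wL_eq : prodL [[1,3,4,8,51,33,72,132], [235,144,150,118,16,220,194,18], [1,3,4,8,51,33,72,132]] = wL := by
  decide +kernel
theorem rL_eq : prodL [[235,144,150,118,16,220,194,18], [1,2,5,8,80,40,64,130], [225,210,56,52,16,32,128,64]] = rL := by
  decide +kernel
theorem kL_eq : prodL [[1,2,4,9,144,36,66,128], [1,2,5,8,80,40,64,130], [1,3,4,8,51,33,72,132]] = kL := by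
  decide +kernel
theorem nL_eq : prodL [[123,144,20,36,16,28,194,18], [235,144,150,118,16,220,194,18]] = nL := by
  decide +kernel

/-- the matrices of the letters -/
def mats : List (List ℕ) := [tL, wL, rL, kL, nL]

/-- the printed generators as words in the letters -/
def gw : List (List ℕ) := [[0], [2, 2, 0, 2], [2, 0, 2, 2, 3], [0, 1, 2, 0, 2, 1, 4], [0, 1, 2, 0, 2, 1], [0, 1, 2, 0]]

theorem gw_eq : ∀ L ∈ confOminus.X ++ confOminus.N, ∃ w ∈ gw, prodL (w.map fun i => mats.getD i []) = L ∧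
    ∀ M ∈ (w.map fun i => mats.getD i []), M ∈ mats := by decide +kernel

/-- what is proved -/
structure Out {G : Type*} [Group G] (Q A : Subgroup G) (z a : G) (t w r k n s : G) : Prop where
  rels : RelsC t w r k n z s
  s_mem : s ∈ Q
  a_eq : w * (n * s * n) * w = a
  e_mem : w * s * w ∈ A
  d_mem : n * (s * (t * s * t) * (w * s * w)) * n ∈ A
  t_mem : t ∈ A
  k_mem : k ∈ A
  ra : r * a = a * r
  zQ : ∀ x ∈ Q, IsConj z x → x = z ∨
    ∃ g ∈ Subgroup.closure ({t, w, r, k, n} : Set G), x = g * s * g⁻¹ ∨ x = g * s * g⁻¹ * z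

section

variable {G : Type*} [Group G] {Q A : Subgroup G} {z a : G}

/-- elements of `C(z)` with the same action on `Q` have the same action on `V` -/
theorem act_eq {h : Large Q z} {φ : Coord h} {ι : X8 →* G} (c : QC h φ ι) {g g' : G}
    (hg : g ∈ Subgroup.centralizer ({z} : Set G)) (hg' : g' ∈ Subgroup.centralizer ({z} : Set G))
    {α : MulAut X8} (h1 : ActsLib.Acts ι g α) (h2 : ActsLib.Acts ι g' α) :
    h.act ⟨g, hg⟩ = h.act ⟨g', hg'⟩ := by
  have hzC : z ∈ Subgroup.centralizer ({z} : Set G) := Subgroup.mem_centralizer_singleton_iff.2 rfl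
  rcases c.eq_or h1 h2 with h3 | h3
  · congr 1
    exact Subtype.ext h3
  · have : (⟨g, hg⟩ : Subgroup.centralizer ({z} : Set G)) = ⟨z, hzC⟩ * ⟨g', hg'⟩ := Subtype.ext h3
    rw [this, map_mul, h.act_mem ⟨z, hzC⟩ h.z_mem, one_mul]

theorem exists_lt (x : X8) (hx : x.v.1 < 16) : ∃ (c : Fin 16) (b : Bool), x = mk c b := by
  refine ⟨⟨x.v.1, hx⟩, x.s, ?_⟩
  apply Cfsg.Agent.LargeExtra.Model.XG.ext'
  · show x.v.1 = x.v.1 % 2 ^ 8
    rw [Nat.mod_eq_of_lt x.v.2]
  · rfl

/-- `ι x ∈ A` iff the code is less than 16 -/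
theorem mem_A_iff (p : Pair Q z A a) (φ : Coord p.lz)
    (hD : ∀ v, v ∈ p.D ↔ φ.e v 4 = 0 ∧ φ.e v 5 = 0 ∧ φ.e v 6 = 0 ∧ φ.e v 7 = 0) {ι : X8 →* G}
    (c : QC p.lz φ ι) (x : X8) : ι x ∈ A ↔ x.v.1 < 16 := by
  have h1 : ι x ∈ A ↔ p.lz.pr ⟨ι x, c.mem x⟩ ∈ p.D :=
    (p.pr_mem_D ⟨ι x, c.mem x⟩).symm
  rw [h1, hD, c.pr_eq]
  have key : ∀ n < 256, (vec n 4 = 0 ∧ vec n 5 = 0 ∧ vec n 6 = 0 ∧ vec n 7 = 0) ↔ n < 16 := by
    decide +kernel
  exact key _ x.v.2

end

theorem main' {G : Type*} [Group G] [Finite G] {Q A : Subgroup G} {z a : G} (p : Pair Q z A a)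
    (φ : Coord p.lz) (hc : IsConf p φ confOminus) :
    ∃ t w r k n s, Out Q A z a t w r k n s ∧ ∀ c (hc : c ∈ Subgroup.centralizer ({z} : Set G)),
      p.lz.act ⟨c, hc⟩ ∈ Subgroup.closure {f | ∃ L ∈ confOminus.X ++ confOminus.N, Acts φ L f} →
      ∃ c' ∈ Subgroup.closure ({t, w, r, k, n} : Set G), c'⁻¹ * c ∈ Q := by
  classical
  obtain ⟨ι, c, ha⟩ := exists_qc p.lz φ ⟨a, p.a_mem⟩ hc.va
  have ha' : ι (q8 0) = a := ha
  have hD16 := KillNine.Cert.card_D_of_conf p φ hc.D
  have hV : Nat.card p.lz.V = 256 := by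
    rw [Nat.card_congr φ.e.toEquiv, Nat.card_eq_fintype_card]
    decide +kernel
  have hDD : Nat.card p.D * Nat.card p.D = Nat.card p.lz.V := by rw [hD16, hV]
  have hza : z ≠ a := p.ne.symm
  -- realised matrices
  have hX : ∀ L ∈ X1, In φ p.X L := fun L hL => hc.X L hL
  have hH : ∀ L ∈ X1 ++ confOminus.N, In φ p.H L := by
    intro L hL
    rcases List.mem_append.1 hL with h1 | h1
    · obtain ⟨f, hf, hf'⟩ := hX L h1
      exact ⟨f, p.X_le_H hf, hf'⟩
    · exact hc.N L h1
  obtain ⟨ft, hft, hftL⟩ : In φ p.X tL := tL_eq ▸ In.prod fun L hL => hX L (by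
    revert L; decide)
  obtain ⟨fk, hfk, hfkL⟩ : In φ p.X kL := kL_eq ▸ In.prod fun L hL => hX L (by
    revert L; decide)
  obtain ⟨fw, hfw, hfwL⟩ : In φ p.H wL := wL_eq ▸ In.prod fun L hL => hH L (by
    revert L; decide)
  obtain ⟨fr, hfr, hfrL⟩ : In φ p.H rL := rL_eq ▸ In.prod fun L hL => hH L (by
    revert L; decide)
  obtain ⟨fn, hfn, hfnL⟩ : In φ p.H nL := nL_eq ▸ In.prod fun L hL => hH L (by
    revert L; decide)
  -- first lifts
  obtain ⟨t0, ht0C, ht0a, ht0⟩ := c.exists_lift (p.X_le_H hft) hftL tI good_t (by decide +kernel)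
  obtain ⟨k, hkC, hka, hk⟩ := c.exists_lift (p.X_le_H hfk) hfkL kI good_k (by decide +kernel)
  obtain ⟨w0, hw0C, hw0a, hw0⟩ := c.exists_lift hfw hfwL wI good_w (by decide +kernel)
  obtain ⟨r0, hr0C, hr0a, hr0⟩ := c.exists_lift hfr hfrL rI good_r (by decide +kernel)
  obtain ⟨n0, hn0C, hn0a, hn0⟩ := c.exists_lift hfn hfnL nI good_n (by decide +kernel)
  replace ht0 : ActsLib.Acts ι t0 αt := ht0
  replace hk : ActsLib.Acts ι k αk := hk
  replace hw0 : ActsLib.Acts ι w0 αw := hw0
  replace hr0 : ActsLib.Acts ι r0 αr := hr0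
  replace hn0 : ActsLib.Acts ι n0 αn := hn0
  have p3 : ∀ α : MulAut X8, α * α * α = 1 → α ^ 3 = 1 := by
    intro α h; rw [pow_succ, pow_two]; exact h
  -- odd lifts
  obtain ⟨r, hr3, hr, -⟩ := c.odd_lift hr0 (p3 _ a_r3)
  obtain ⟨P, hP3, hP, -⟩ := c.odd_lift (ht0.mul hr) (p3 _ a_tr)
  have hr3' : r * r * r = 1 := by rw [← hr3, pow_succ, pow_two]
  have hri : ActsLib.Acts ι r⁻¹ (αr * αr) := by
    have h1 := hr.inv
    have h2 : αr⁻¹ = αr * αr := inv_eq_of_mul_eq_one_left a_r3
    show ActsLib.Acts ι r⁻¹ (αr * αr)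
    rw [← h2]; exact h1
  set t := P * r⁻¹ with htdef
  have ht : ActsLib.Acts ι t αt := by
    have h1 := hP.mul hr.inv
    rwa [mul_inv_cancel_right] at h1
  have htr : t * r = P := by rw [htdef]; group
  obtain ⟨y, hy3, hy, -⟩ := c.odd_lift (hw0.mul ht) (p3 _ a_wt)
  set w := y * t⁻¹ with hwdef
  have hw : ActsLib.Acts ι w αw := by
    have h1 := hy.mul ht.inv
    rwa [mul_inv_cancel_right] at h1
  have hwt : w * t = y := by rw [hwdef]; group
  obtain ⟨x, hx3, hx, -⟩ := c.odd_lift (hk.mul hn0) (p3 _ a_kn)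
  -- `t`, `k` in `A`
  have htC : t ∈ Subgroup.centralizer ({z} : Set G) :=
    Subgroup.mem_centralizer_singleton_iff.2 (c.comm_z ht)
  have hmemA : ∀ {g : G} (hg : g ∈ Subgroup.centralizer ({z} : Set G)) {α : MulAut X8}
      (h1 : ActsLib.Acts ι g α) (hX' : p.lz.act ⟨g, hg⟩ ∈ p.X)
      (h2 : ∀ (c : Fin 16) (b : Bool), α (mk c b) = mk c b ∨ α (mk c b) = mk c b * q8 0), g ∈ A := by
    intro g hg α h1 hX' h2
    refine mem_A p hDD hg hX' ?_
    intro d hdQ hdA
    obtain ⟨d', rfl⟩ := c.surj d hdQ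
    obtain ⟨c', b, hcb⟩ := exists_lt d' ((mem_A_iff p φ hc.D c d').1 hdA)
    rw [← h1 d']
    rcases h2 c' b with h3 | h3
    · left; rw [hcb, h3]
    · right; rw [hcb, h3, map_mul, ha']
  have htA : t ∈ A := by
    refine hmemA htC ht ?_ t_D
    rw [act_eq c htC ht0C ht ht0, ht0a]; exact hft
  have hkA : k ∈ A := by
    refine hmemA hkC hk ?_ k_D
    rw [hka]; exact hfk
  -- involutions of `A`
  have hsqA : ∀ {g : G}, g ∈ A → ActsLib.Acts ι (g * g) 1 → g * g = 1 := by
    intro g hg h1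
    rcases p.la.sq g hg with h2 | h2
    · exact h2
    · rcases c.ker h1 with h3 | h3
      · exact h3
      · exact absurd (h3.symm.trans h2) hza
  have ht2 : t * t = 1 := hsqA htA (by have := ht.mul ht; rwa [a_t2] at this)
  have hk2 : k * k = 1 := hsqA hkA (by have := hk.mul hk; rwa [a_k2] at this)
  have hti : t⁻¹ = t := inv_eq_of_mul_eq_one_left ht2
  have hki : k⁻¹ = k := inv_eq_of_mul_eq_one_left hk2
  have hy3' : y * y * y = 1 := by rw [← hy3, pow_succ, pow_two]
  have hx3' : x * x * x = 1 := by rw [← hx3, pow_succ, pow_two]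
  have hinv3 : ∀ {g : G}, g ^ 3 = 1 → (g⁻¹) ^ 3 = 1 := by
    intro g hg; rw [inv_pow, hg, inv_one]
  have hconj3 : ∀ {g b : G}, g ^ 3 = 1 → (b * g * b⁻¹) ^ 3 = 1 := by
    intro g b hg; rw [conj_pow, hg, mul_one, mul_inv_cancel]
  -- `w² = 1`
  have hw2 : w * w = 1 := by
    have h1 : t * y * t⁻¹ = y⁻¹ := by
      refine c.eq_of_odd (hconj3 hy3) (hinv3 hy3) (hy.conj ht) ?_
      have h2 := hy.inv
      have h3 : αt * (αw * αt) * αt⁻¹ = (αw * αt)⁻¹ := by
        rw [mul_inv_rev, inv_eq_of_mul_eq_one_left a_t2, inv_eq_of_mul_eq_one_left a_w2]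
        rw [mul_assoc αt, mul_assoc αw, a_t2, mul_one]
      rw [h3]; exact h2
    calc w * w = y * (t * y * t⁻¹) * (t * t) := by
          have e : w = y * t := by rw [hwdef, hti]
          rw [e]; group
      _ = 1 := by rw [h1, ht2]; group
  have hwi : w⁻¹ = w := inv_eq_of_mul_eq_one_left hw2
  -- `n`
  set n := k * x with hndef
  have hn : ActsLib.Acts ι n αn := by
    have h1 := hk.mul hx
    have h2 : αk * (αk * αn) = αn := by rw [← mul_assoc, a_k2, one_mul]
    show ActsLib.Acts ι (k * x) αn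
    rw [← h2]; exact h1
  have hkn : k * n = x := by rw [hndef, ← mul_assoc, hk2, one_mul]
  have hn2 : n * n = 1 := by
    have h1 : k * x * k⁻¹ = x⁻¹ := by
      refine c.eq_of_odd (hconj3 hx3) (hinv3 hx3) (hx.conj hk) ?_
      have h2 := hx.inv
      have h3 : αk * (αk * αn) * αk⁻¹ = (αk * αn)⁻¹ := by
        rw [mul_inv_rev, inv_eq_of_mul_eq_one_left a_k2, inv_eq_of_mul_eq_one_left a_n2,
          ← mul_assoc, a_k2, one_mul]
      rw [h3]; exact h2
    calc n * n = (k * x * k⁻¹) * (k * k) * x := by rw [hndef]; group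
      _ = 1 := by rw [h1, hk2]; group
  have hni : n⁻¹ = n := inv_eq_of_mul_eq_one_left hn2
  -- commutation
  have ckr : k * r = r * k := (c.comm_of_odd hr3 hr hk a_kr.symm).symm
  have ckP : k * P = P * k := (c.comm_of_odd hP3 hP hk (by
    show αt * αr * αk = αk * (αt * αr)
    rw [← mul_assoc, a_kt, mul_assoc, ← a_kr, mul_assoc])).symm
  have cky : k * y = y * k := (c.comm_of_odd hy3 hy hk (by
    show αw * αt * αk = αk * (αw * αt)
    rw [← mul_assoc, a_kw, mul_assoc, ← a_kt, mul_assoc])).symm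
  have cxr : x * r = r * x := c.comm_of_odd hx3 hx hr (by
    show αk * αn * αr = αr * (αk * αn)
    rw [mul_assoc, a_nr, ← mul_assoc, a_kr, mul_assoc])
  have cxt : x * t = t * x := c.comm_of_odd hx3 hx ht (by
    show αk * αn * αt = αt * (αk * αn)
    rw [mul_assoc, a_nt, ← mul_assoc, a_kt, mul_assoc])
  have cxw : x * w = w * x := c.comm_of_odd hx3 hx hw (by
    show αk * αn * αw = αw * (αk * αn)
    rw [mul_assoc, a_nw, ← mul_assoc, a_kw, mul_assoc])
  have ckt : k * t = t * k := by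
    have h1 : Commute k r⁻¹ := Commute.inv_right (show Commute k r from ckr)
    have h2 : Commute k t := Commute.mul_right (show Commute k P from ckP) h1
    exact h2
  have ckw : k * w = w * k := by
    have h1 : Commute k t⁻¹ := Commute.inv_right (show Commute k t from ckt)
    have h2 : Commute k w := Commute.mul_right (show Commute k y from cky) h1
    exact h2
  have cnr : n * r = r * n := (Commute.mul_left (show Commute k r from ckr) (show Commute x r from cxr)).eq
  have cnt : n * t = t * n := (Commute.mul_left (show Commute k t from ckt) (show Commute x t from cxt)).eq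
  have cnw : n * w = w * n := (Commute.mul_left (show Commute k w from ckw) (show Commute x w from cxw)).eq
  have hzc : ∀ {g : G} {α : MulAut X8}, ActsLib.Acts ι g α → g * z = z * g := fun h1 => c.comm_z h1
  -- `r` centralises `a`
  have hra : r * a = a * r := by rw [← ha']; exact hr.comm r_a
  -- `w` inverts `r`
  have hwr : w * r * w⁻¹ = r⁻¹ := by
    refine c.eq_of_odd (hconj3 hr3) (hinv3 hr3) (hr.conj hw) ?_
    have h3 : αw * αr * αw⁻¹ = αr⁻¹ := by
      rw [inv_eq_of_mul_eq_one_left a_w2, eq_inv_iff_mul_eq_one, mul_assoc, mul_assoc]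
      have := a_wr
      rwa [mul_assoc] at this
    rw [h3]; exact hr.inv
  -- `(t t^r)² = 1`
  have huA : r⁻¹ * t * r ∈ A := by
    have h1 : r⁻¹ * a = a * r⁻¹ := by
      rw [inv_mul_eq_iff_eq_mul, ← mul_assoc, hra, mul_assoc, mul_inv_cancel, mul_one]
    have := p.conj_mem_A h1 htA
    rwa [inv_inv] at this
  have hu : ActsLib.Acts ι (r⁻¹ * t * r) (αr * αr * αt * αr) := (hri.mul ht).mul hr
  have htu : (t * (r⁻¹ * t * r)) * (t * (r⁻¹ * t * r)) = 1 := by
    refine hsqA (A.mul_mem htA huA) ?_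
    have := (ht.mul hu).mul (ht.mul hu)
    rwa [a_tu] at this
  have hu2 : (r⁻¹ * t * r)⁻¹ = r⁻¹ * t * r := by
    rw [mul_inv_rev, mul_inv_rev, inv_inv, hti]; group
  -- elements of `Q`
  set s := ι σ with hsdef
  have hs2 : s * s = 1 := by rw [hsdef, ← map_mul, s_sq, map_one]
  have hsi : s⁻¹ = s := inv_eq_of_mul_eq_one_left hs2
  have Et : t * s * t = ι (αt σ) := by
    have h1 := ht σ
    rw [hti] at h1; exact h1.symm
  have Ek : k * s * k = ι (αk σ) := by
    have h1 := hk σ
    rw [hki] at h1; exact h1.symm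
  have En : n * s * n = ι (αn σ) := by
    have h1 := hn σ
    rw [hni] at h1; exact h1.symm
  have Ew : w * s * w = ι (αw σ) := by
    have h1 := hw σ
    rw [hwi] at h1; exact h1.symm
  have Er : r * s = s * r := hr.comm s_r
  have Ewn : w * (n * s * n) * w = ι (αw (αn σ)) := by
    have h1 := hw (αn σ)
    rw [hwi, ← En] at h1; exact h1.symm
  have Enw : n * (w * s * w) * n = ι (αn (αw σ)) := by
    have h1 := hn (αw σ)
    rw [hni, ← Ew] at h1; exact h1.symm
  have Eu : r⁻¹ * t * r * s * r⁻¹ * t * r = ι (αr (αr (αt (αr σ)))) := by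
    have h1 := hu σ
    rw [hu2] at h1
    rw [show αr (αr (αt (αr σ))) = (αr * αr * αt * αr) σ from rfl, h1, ← hsdef]
    group
  have Ev : r * t * r⁻¹ * s * r * t * r⁻¹ = ι (αr (αt (αr (αr σ)))) := by
    have h0 : ActsLib.Acts ι (r * t * r⁻¹) (αr * αt * (αr * αr)) := (hr.mul ht).mul hri
    have h1 := h0 σ
    have h2 : (r * t * r⁻¹)⁻¹ = r * t * r⁻¹ := by
      rw [mul_inv_rev, mul_inv_rev, inv_inv, hti]; group
    rw [h2] at h1
    rw [show αr (αt (αr (αr σ))) = (αr * αt * (αr * αr)) σ from rfl, h1, ← hsdef]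
    group
  have Eat : w * (n * s * n) * w = a := by rw [Ewn, s_a, ha']
  -- generic
  have sq_of_comm : ∀ {g b : G}, g * b = b * g → g * g = 1 → b * b = 1 → (g * b) ^ 2 = 1 := by
    intro g b h1 h2 h3
    rw [pow_two]
    calc g * b * (g * b) = g * (b * g) * b := by group
      _ = (g * g) * (b * b) := by rw [← h1]; group
      _ = 1 := by rw [h2, h3, one_mul]
  have hz2 := p.lz.z_sq
  have rels : RelsC t w r k n z s := by
    refine
      { t2 := ht2, w2 := hw2, k2 := hk2, n2 := hn2, z2 := hz2, s2 := hs2, r3 := hr3',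
        wr := ?_, wt := ?_, tr := ?_, trtr := ?_, kn := ?_, kt := sq_of_comm ckt hk2 ht2,
        kw := sq_of_comm ckw hk2 hw2, kr := ?_, nt := sq_of_comm cnt hn2 ht2,
        nw := sq_of_comm cnw hn2 hw2, nr := ?_, zt := sq_of_comm (hzc ht).symm hz2 ht2,
        zw := sq_of_comm (hzc hw).symm hz2 hw2, zr := ?_, zk := sq_of_comm (hzc hk).symm hz2 hk2,
        zn := sq_of_comm (hzc hn).symm hz2 hn2, zs := ?_, sr := ?_, ks := ?_, swt := ?_, sw := ?_,
        sn := ?_, five := ?_, zz := ?_ }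
    · rw [pow_two]
      calc w * r * (w * r) = (w * r * w⁻¹) * (w * w) * r := by group
        _ = 1 := by rw [hwr, hw2]; group
    · rw [hwt]; exact hy3
    · rw [htr]; exact hP3
    · have e : t * r⁻¹ * t * r = t * (r⁻¹ * t * r) := by group
      rw [pow_two, e]; exact htu
    · rw [hkn]; exact hx3
    · calc k * r⁻¹ * k * r = k * (r⁻¹ * (k * r)) := by group
        _ = k * k := by rw [ckr]; group
        _ = 1 := hk2
    · calc n * r⁻¹ * n * r = n * (r⁻¹ * (n * r)) := by group
        _ = n * n := by rw [cnr]; group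
        _ = 1 := hn2
    · calc z * r⁻¹ * z * r = z * (r⁻¹ * (z * r)) := by group
        _ = z * z := by rw [← hzc hr]; group
        _ = 1 := hz2
    · exact sq_of_comm (p.lz.comm_z s (c.mem σ)).symm hz2 hs2
    · calc s * r⁻¹ * s * r = s * (r⁻¹ * (s * r)) := by group
        _ = s * s := by rw [← Er]; group
        _ = 1 := hs2
    · calc k * s * k * s * (n * s * n) = ι (αk σ * σ * αn σ) := by
            rw [map_mul, map_mul, ← Ek, ← En]
        _ = 1 := by rw [s_ks, map_one]
    · have h1 : ActsLib.Acts ι (w * t * w) (αw * αt * αw) := (hw.mul ht).mul hw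
      have h2 : (w * t * w) * s = s * (w * t * w) := h1.comm s_swt
      have h3 : (w * t * w) * (w * t * w) = 1 := by
        calc (w * t * w) * (w * t * w) = w * t * (w * w) * t * w := by group
          _ = w * (t * t) * w := by rw [hw2]; group
          _ = 1 := by rw [ht2, mul_one, hw2]
      have h4 := sq_of_comm h2.symm hs2 h3
      have e : s * w * t * w = s * (w * t * w) := by group
      rw [e]; exact h4
    · calc (s * w) ^ 4 = (s * (w * s * w)) * (s * (w * s * w)) := by
            rw [show (4 : ℕ) = 1 + 1 + 1 + 1 from rfl, pow_add, pow_add, pow_add, pow_one]; group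
        _ = ι (σ * αw σ * (σ * αw σ)) := by rw [map_mul, map_mul, ← Ew]
        _ = 1 := by rw [s_sw, map_one]
    · calc (s * n) ^ 4 = (s * (n * s * n)) * (s * (n * s * n)) := by
            rw [show (4 : ℕ) = 1 + 1 + 1 + 1 from rfl, pow_add, pow_add, pow_add, pow_one]; group
        _ = ι (σ * αn σ * (σ * αn σ)) := by rw [map_mul, map_mul, ← En]
        _ = 1 := by rw [s_sn, map_one]
    · calc s * (t * s * t) * (r⁻¹ * t * r * s * r⁻¹ * t * r) * (r * t * r⁻¹ * s * r * t * r⁻¹) *
            (w * s * w)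
          = ι (σ * αt σ * αr (αr (αt (αr σ))) * αr (αt (αr (αr σ))) * αw σ) := by
            rw [map_mul, map_mul, map_mul, map_mul, ← Et, ← Ew, ← Eu, ← Ev]
        _ = 1 := by rw [s_five, map_one]
    · calc (s * n * w * s * w * n) ^ 2 = (s * (n * (w * s * w) * n)) * (s * (n * (w * s * w) * n)) := by
            rw [pow_two]; group
        _ = ι (σ * αn (αw σ) * (σ * αn (αw σ))) := by rw [map_mul, map_mul, ← Enw]
        _ = z := by rw [s_zz]; exact c.zz
  refine ⟨t, w, r, k, n, s, ⟨rels, c.mem σ, Eat, ?_, ?_, htA, hkA, hra, ?_⟩, ?_⟩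
  · rw [Ew]; exact (mem_A_iff p φ hc.D c _).2 s_e
  · have h1 := hn (σ * αt σ * αw σ)
    have e : ι (σ * αt σ * αw σ) = s * (t * s * t) * (w * s * w) := by
      rw [map_mul, map_mul, ← Et, ← Ew]
    rw [e, hni] at h1
    rw [show n * (s * (t * s * t) * (w * s * w)) * n = ι (αn (σ * αt σ * αw σ)) from h1.symm]
    exact (mem_A_iff p φ hc.D c _).2 s_d
  · -- fusion in `Q`
    intro x' hx' hconj
    by_cases h0 : p.lz.pr ⟨x', hx'⟩ = 0
    · left
      rcases p.lz.pr_eq_zero.1 h0 with h1 | h1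
      · exfalso
        have h2 : x' = 1 := h1
        rw [h2, isConj_iff] at hconj
        obtain ⟨g, hg⟩ := hconj
        apply p.lz.z_ne
        have := congrArg (fun u => g⁻¹ * u * g) hg
        simpa [mul_assoc] using this
      · exact h1
    · right
      obtain ⟨m, hm, hmv⟩ := KillNine.PtsOminus.pts p φ hc ⟨x', hx'⟩ hconj h0
      obtain ⟨l, -, hl⟩ := wds_orb m hm
      have key : ∀ l : List ℕ, ∃ g ∈ Subgroup.closure ({t, w, r, k, n} : Set G),
          ActsLib.Acts ι g ((l.map αs).prod) := by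
        intro l
        induction l with
        | nil => exact ⟨1, Subgroup.one_mem _, ActsLib.Acts.one⟩
        | cons i l ih =>
          obtain ⟨g, hg, hga⟩ := ih
          have hi : ∃ g' ∈ Subgroup.closure ({t, w, r, k, n} : Set G), ActsLib.Acts ι g' (αs i) := by
            match i with
            | 0 => exact ⟨t, Subgroup.subset_closure (by simp), ht⟩
            | 1 => exact ⟨w, Subgroup.subset_closure (by simp), hw⟩
            | 2 => exact ⟨r, Subgroup.subset_closure (by simp), hr⟩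
            | 3 => exact ⟨k, Subgroup.subset_closure (by simp), hk⟩
            | (j + 4) => exact ⟨n, Subgroup.subset_closure (by simp), hn⟩
          obtain ⟨g', hg', hga'⟩ := hi
          exact ⟨g' * g, Subgroup.mul_mem _ hg' hg, hga'.mul hga⟩
      obtain ⟨g, hg, hga⟩ := key l
      refine ⟨g, hg, ?_⟩
      obtain ⟨y', rfl⟩ := c.surj x' hx'
      have h1 : y'.v.1 = ((((l.map αs).prod) σ).v.1) := by
        rw [hl]
        have h2 : vec y'.v.1 = vec m := by rw [← c.pr_eq y']; exact hmv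
        refine vec_inj _ y'.v.2 _ ?_ h2
        rw [← hl]; exact (((l.map αs).prod) σ).v.2
      have h3 : y' = ((l.map αs).prod) σ ∨ y' = ((l.map αs).prod) σ * z8 := by
        by_cases hs : y'.s = (((l.map αs).prod) σ).s
        · exact Or.inl (Cfsg.Agent.LargeExtra.Model.XG.ext' h1 hs)
        · right
          apply Cfsg.Agent.LargeExtra.Model.XG.ext'
          · rw [Cfsg.Agent.LargeExtra.Model.mul_v, Cfsg.Agent.LargeExtra.Model.zz_v, Nat.xor_zero]
            exact h1
          · rw [Cfsg.Agent.LargeExtra.Model.mul_s, Cfsg.Agent.LargeExtra.Model.zz_v,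
              Cfsg.Agent.LargeExtra.Model.zz_s, Cfsg.Agent.LargeExtra.Model.bf_zero_right]
            revert hs
            cases y'.s <;> cases (((l.map αs).prod) σ).s <;> simp
      rcases h3 with h4 | h4
      · left
        rw [h4, hga]
      · right
        rw [h4, map_mul, hga, c.zz]
  · -- the letters generate `N` modulo `Q`
    intro x hxC hx
    set Bc := Subgroup.closure ({t, w, r, k, n} : Set G) with hBc
    have hin : ∀ {g g0 : G} (hg : g ∈ Subgroup.centralizer ({z} : Set G))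
        (hg0 : g0 ∈ Subgroup.centralizer ({z} : Set G)) {α : MulAut X8}, ActsLib.Acts ι g α → ActsLib.Acts ι g0 α →
        ∀ {f : p.lz.V ≃ₗ[ZMod 2] p.lz.V} {L : List ℕ}, Acts φ L f → p.lz.act ⟨g0, hg0⟩ = f → g ∈ Bc →
        In φ (Local.img p.lz Bc) L := by
      intro g g0 hg hg0 α h1 h2 f L hL hf hgB
      refine ⟨f, ?_, hL⟩
      rw [Local.mem_img]
      exact ⟨⟨g, hg⟩, hgB, by rw [act_eq c hg hg0 h1 h2, hf]⟩
    have hcc : ∀ {g : G} {α : MulAut X8}, ActsLib.Acts ι g α → g ∈ Subgroup.centralizer ({z} : Set G) :=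
      fun h1 => Subgroup.mem_centralizer_singleton_iff.2 (c.comm_z h1)
    have hmats : ∀ M ∈ mats, In φ (Local.img p.lz Bc) M := by
      intro M hM
      simp only [mats, List.mem_cons, List.not_mem_nil, or_false] at hM
      rcases hM with rfl | rfl | rfl | rfl | rfl
      · exact hin (hcc ht) ht0C ht ht0 hftL ht0a (Subgroup.subset_closure (by simp))
      · exact hin (hcc hw) hw0C hw hw0 hfwL hw0a (Subgroup.subset_closure (by simp))
      · exact hin (hcc hr) hr0C hr hr0 hfrL hr0a (Subgroup.subset_closure (by simp))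
      · exact hin (hcc hk) hkC hk hk hfkL hka (Subgroup.subset_closure (by simp))
      · exact hin (hcc hn) hn0C hn hn0 hfnL hn0a (Subgroup.subset_closure (by simp))
    have hle : Subgroup.closure {f | ∃ L ∈ confOminus.X ++ confOminus.N, Acts φ L f} ≤ Local.img p.lz Bc := by
      rw [Subgroup.closure_le]
      rintro f ⟨L, hL, hf⟩
      obtain ⟨w', -, h1, h2⟩ := gw_eq L hL
      obtain ⟨g, hg, hg'⟩ : In φ (Local.img p.lz Bc) (prodL (w'.map fun i => mats.getD i [])) :=
        In.prod fun M hM => hmats M (h2 M hM)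
      rw [h1] at hg'
      rw [Acts.ext (φ := φ) hf hg']
      exact hg
    obtain ⟨c', hc', hc'x⟩ := (Local.mem_img _ _ _).1 (hle hx)
    refine ⟨c', hc', ?_⟩
    have : p.lz.act (c'⁻¹ * ⟨x, hxC⟩) = 1 := by rw [map_mul, map_inv, hc'x, inv_mul_cancel]
    exact p.lz.mem_of_act _ this

theorem main {G : Type*} [Group G] [Finite G] {Q A : Subgroup G} {z a : G} (p : Pair Q z A a)
    (φ : Coord p.lz) (hc : IsConf p φ confOminus) :
    ∃ t w r k n s, Out Q A z a t w r k n s := by
  obtain ⟨t, w, r, k, n, s, h, -⟩ := main' p φ hc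
  exact ⟨t, w, r, k, n, s, h⟩

end Cfsg.Agent.TypeO8Minus.CentC
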