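import Cfsg.Agent.TypeO8Minus.ELcData

set_option autoImplicit false
set_option maxRecDepth 100000

namespace Cfsg.Agent.TypeO8Minus.ELcChk0

open Cfsg.Agent.SporadicRecognition.CosetCert Cfsg.Agent.TypeO8Minus.ELcData

theorem c0 : Part C 0 6 6 := runChunk_sound C 6 (by decide +kernel : runChunk C 7 127 0x405182260f1814608983020a98286cc082a60a1b30405182260c1020494a85 1 1 0 0 6 = 7)

theorem all : Part C 0 6 6 := c0

end Cfsg.Agent.TypeO8Minus.ELcChk0
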