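import Cfsg.Agent.SporadicRecognition.CosetCert

set_option autoImplicit false
set_option maxRecDepth 100000

namespace Cfsg.Agent.TypeO8Minus.ELcData

open Cfsg.Agent.SporadicRecognition.CosetCert

noncomputable def tree : Tr := (.L 0x3ff257643a2d067f27fe3cbb6eb95aacd4ffa29ecac5a29138bff2cb14f683399ad7fe9414928a4421d27fcc632108642209f)

noncomputable def wtree : WT := (.N 3 (.N 1 (.L 0 [4,0,4]) (.N 2 (.L 1 [4,1,4]) (.L 3 [4,3,4]))) (.N 5 (.N 4 (.L 0 [5,0,5]) (.L 1 [5,1,5])) (.N 6 (.L 3 [5,3,5]) (.L 5 [4,5,4,5,4]))))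

noncomputable def stree : ST := (.N 1 (.L 0 [] []) (.N 2 (.L 1 [] []) (.L 2 [] [])))

noncomputable def C : Cert where
  data := tree
  lm := 15
  rb := 67
  fb := 9
  mask := 511
  B := 8
  k := 6
  N := 6
  inv := fun x => bif Nat.beq x 0 then 0 else bif Nat.beq x 1 then 1 else bif Nat.beq x 2 then 3 else bif Nat.beq x 3 then 2 else bif Nat.beq x 4 then 4 else bif Nat.beq x 5 then 5 else x
  words := wtree
  subs := stree

def rels : List (List Nat) := [[2,2,2], [1,2,1,2], [4,0,4,0], [4,1,4,1], [4,3,4,2], [5,0,5,0], [5,1,5,1], [5,3,5,2], [1,0,1,0,1,0], [0,2,0,2,0,2], [4,5,4,5,4,5], [0,3,0,2,0,3,0,2]]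

def subw : List (List Nat) := [[0], [1], [2]]

end Cfsg.Agent.TypeO8Minus.ELcData
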