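import Cfsg.Agent.TypeO8Minus.ELdData

set_option autoImplicit false
set_option maxRecDepth 100000

namespace Cfsg.Agent.TypeO8Minus.ELdChk0

open Cfsg.Agent.SporadicRecognition.CosetCert Cfsg.Agent.TypeO8Minus.ELdData

theorem c0 : Part C 0 60 60 := runChunk_sound C 60 (by decide +kernel : runChunk C 8 255 0x102020202011302020302016302330102010273010202b3630201020203010243020201025333010201020201020202630201a3020301a30102230202830102020113739302010202030201630202010201020201020202010223020283010202011373930201020203020163020201630201a3020301a34302020102530201020102020103020201022302028301a302011373930201a343020201025302010201130201032302020302016302020102010202010302020202020143020201025302010201020201030202020233010201130201032302020201020201130201032302020201020202020102020202 1 1 0 0 60 = 61)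

theorem all : Part C 0 60 60 := c0

end Cfsg.Agent.TypeO8Minus.ELdChk0
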