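import Cfsg.Agent.SporadicRecognition.CosetCert

set_option autoImplicit false
set_option maxRecDepth 100000

namespace Cfsg.Agent.TypeO8Minus.ELdData

open Cfsg.Agent.SporadicRecognition.CosetCert

noncomputable def tree : Tr := (.N 32 (.N 16 (.L 0xfffcb8f2b18c075e78bfff2718b502a2171d3fffd59c526c98923183fff334531a4a648450fffd19837491171f103fff1c286431e110962fffc5431b2c6054054ffff3c50e9325384c30fffc4870f08a4f3648bfff0d084482f40c913fffcb10283c2c224387fff0a101c1172888d2fffc141091474b2030ffff1a2c58a03045091fffc4080e1c30601043fff0814184040c082f) (.L 0xfffe0e7665d8d297ac7fff62662685f467ed1fffe3e9a2ba7ad5d403fff9ab24ea96ad6cf0fffd61b553969392a8bfff51395dc54523a93fffd2cd4e462e85060ffff88a185f4935c631fffd21245321674f68bfff65820a74331e651fffda617c99e25412c3fff7491b62708cfca0fffcf933b254db6c88bfff3924f545971a213fffce0c476192035203fff4d68d0d607cc470)) (.N 48 (.L 0xfffec71ae8eae2c5d47fffaa96df2a7872f61fffe85ea4a75f8a6b0ffffd4e30f59d7a81f1fffe72a9977477a5b8bfffc9db3b795766201fffe51d9bb323691703fffa3ba41ec2d635b0fffe29f876631abed0bfff815e1208662f333fffded67e86e728090ffffb6caa6f7759e971fffdda27356cf17f98bfffadc2c316f55c991fffdb957592b306b503fff7d99a96a8bd9d30)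 (.L 0xffffa74ece7bbbf0e0ffffe6eb8f3edf3a372ffff8b3e5ef839ddc83fffebf3734dfeb6710ffff5b5d3b762eeff0bfffcdaf436d2b39fb3ffff3f7caaf1eaccbc7fffc4b7578c1a71b01ffff6f9eaf3033bda03fffe4ef87abfd2ee70fffee2fb596ea6dee8bfffaf8ecb0b4936b93)))

noncomputable def wtree : WT := (.N 6 (.N 3 (.N 1 (.L 2 [3,3]) (.N 2 (.L 1 [2,1,2]) (.L 1 [3,1,3]))) (.N 4 (.L 1 [0,1,0,1,0]) (.N 5 (.L 3 [0,2,0,2,0]) (.L 2 [0,3,0,3,0])))) (.N 9 (.N 7 (.L 3 [2,2]) (.N 8 (.L 0 [2,0,2,0,2]) (.L 2 [1,3,1]))) (.N 10 (.L 3 [1,2,1]) (.N 11 (.L 0 [1,0,1,0,1]) (.L 0 [3,0,3,0,3])))))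

noncomputable def stree : ST := (.L 4 [] [])

noncomputable def C : Cert where
  data := tree
  lm := 15
  rb := 74
  fb := 14
  mask := 16383
  B := 64
  k := 4
  N := 60
  inv := fun x => bif Nat.beq x 0 then 0 else bif Nat.beq x 1 then 1 else bif Nat.beq x 2 then 3 else bif Nat.beq x 3 then 2 else x
  words := wtree
  subs := stree

def rels : List (List Nat) := [[2,2,2], [1,2,1,2], [1,0,1,0,1,0], [0,2,0,2,0,2], [0,3,0,2,0,3,0,2]]

def subw : List (List Nat) := []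

end Cfsg.Agent.TypeO8Minus.ELdData
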