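import Mathlib
import Cfsg.Agent.LieClassical.OrthForms
import Cfsg.Agent.LieClassical.OrthFinite
import Cfsg.Agent.TypeO8Minus.Rel

/-!
Explicit generators of `Ω₈⁻(2)` satisfying the relations of `Rel.lean`.  Vectors are coded by numbers `< 256`
(bits `e₁ e₂ e₃ f₁ f₂ f₃ g h`).
-/

set_option autoImplicit false
set_option maxRecDepth 100000

namespace Cfsg.Agent.TypeO8Minus.Model

open QuadraticMap Cfsg.Agent.LieClassical.OrthCore Cfsg.Agent.LieClassical.OrthForms
  Cfsg.Agent.SporadicRecognition.CosetCert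

abbrev Ix : Type := (Fin 3 ⊕ Fin 3) ⊕ Fin 2
abbrev V : Type := Ix → ZMod 2

/-- the quadratic form `x₁y₁ + x₂y₂ + x₃y₃ + z₁² + z₁z₂ + z₂²` -/
abbrev Qm : QuadraticForm (ZMod 2) V := minusForm 3 (ZMod 2) 1 1

def bz (b : Bool) : ZMod 2 := cond b 1 0

theorem bz_xor (a b : Bool) : bz (a ^^ b) = bz a + bz b := by revert a b; decide
theorem bz_and (a b : Bool) : bz (a && b) = bz a * bz b := by revert a b; decide
theorem bz_sq (a : Bool) : bz a ^ 2 = bz a := by revert a; decide
theorem bz_inj {a b : Bool} (h : bz a = bz b) : a = b := by revert a b; decide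
theorem bz_surj (x : ZMod 2) : ∃ b, x = bz b := by revert x; decide
theorem bz_eq_zero {a : Bool} : bz a = 0 ↔ a = false := by revert a; decide

/-- position of a coordinate -/
def idx : Ix → ℕ
  | .inl (.inl i) => i
  | .inl (.inr i) => 3 + i
  | .inr j => 6 + j

/-- the vector with code `c` -/
def vec (c : ℕ) : V := fun i => bz (c.testBit (idx i))

theorem vec_xor (a b : ℕ) : vec (a ^^^ b) = vec a + vec b := by
  funext i
  simp only [vec, Nat.testBit_xor, bz_xor, Pi.add_apply]

theorem vec_zero : vec 0 = 0 := by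
  funext i
  simp [vec, bz]

/-- the quadratic form on codes -/
def qn (c : ℕ) : Bool :=
  (c.testBit 0 && c.testBit 3) ^^ ((c.testBit 1 && c.testBit 4) ^^ ((c.testBit 2 && c.testBit 5) ^^
    (c.testBit 6 ^^ ((c.testBit 6 && c.testBit 7) ^^ c.testBit 7))))

/-- the bilinear form on codes -/
def Bn (a b : ℕ) : Bool := qn (a ^^^ b) ^^ (qn a ^^ qn b)

theorem Q_vec (c : ℕ) : Qm (vec c) = bz (qn c) := by
  rw [coe_minusForm, Cfsg.Agent.LieClassical.OrthForms.quadFormMinus_apply, Fin.sum_univ_three]
  simp only [vec, idx, qn, bz_xor, bz_and, bz_sq, one_mul]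
  norm_num
  ring

theorem polar_vec (a b : ℕ) : polar Qm (vec a) (vec b) = bz (Bn a b) := by
  rw [polar, ← vec_xor, Q_vec, Q_vec, Q_vec, Bn]
  generalize qn (a ^^^ b) = x
  generalize qn a = y
  generalize qn b = u
  revert x y u
  decide

/-- coordinate of a position -/
def pos (i : Fin 8) : Ix :=
  ![.inl (.inl 0), .inl (.inl 1), .inl (.inl 2), .inl (.inr 0), .inl (.inr 1), .inl (.inr 2), .inr 0, .inr 1] i

theorem idx_pos : ∀ i : Fin 8, idx (pos i) = i := by decide

theorem idx_lt : ∀ i : Ix, idx i < 8 := by decide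

theorem pos_idx : ∀ i : Ix, pos ⟨idx i, idx_lt i⟩ = i := by decide

theorem exists_vec (v : V) : ∃ c < 256, v = vec c := by
  classical
  refine ⟨Nat.ofBits (fun i : Fin 8 => decide (v (pos i) = 1)), Nat.ofBits_lt_two_pow _, ?_⟩
  funext i
  rw [vec, Nat.testBit_ofBits_lt _ _ (idx_lt i), pos_idx]
  generalize v i = x
  revert x
  decide

theorem vec_inj {a b : ℕ} (ha : a < 256) (hb : b < 256) (h : vec a = vec b) : a = b := by
  apply Nat.eq_of_testBit_eq
  intro j
  by_cases hj : j < 8
  · have := congrFun h (pos ⟨j, hj⟩)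
    simp only [vec, idx_pos] at this
    exact bz_inj this
  · have h8 : 2 ^ 8 ≤ 2 ^ j := Nat.pow_le_pow_right (by norm_num) (by omega)
    rw [Nat.testBit_lt_two_pow (lt_of_lt_of_le ha h8), Nat.testBit_lt_two_pow (lt_of_lt_of_le hb h8)]

/-! ### Siegel transformations on codes -/

def sie (u w c : ℕ) : ℕ :=
  c ^^^ ((bif Bn u c then w else 0) ^^^ ((bif Bn w c then u else 0) ^^^
    (bif qn w && Bn u c then u else 0)))

theorem smul_vec (b : Bool) (c : ℕ) : bz b • vec c = vec (bif b then c else 0) := by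
  cases b <;> simp [bz, vec_zero]

theorem vadd_self (x : V) : x + x = 0 := by
  funext i
  exact CharTwo.add_self_eq_zero _

theorem neg_vec (x : V) : -x = x := by
  rw [neg_eq_iff_add_eq_zero]
  exact vadd_self x

theorem siegel_vec {u w : ℕ} (hu : Qm (vec u) = 0) (hw : polar Qm (vec u) (vec w) = 0) (c : ℕ) :
    siegel Qm (vec u) (vec w) hu hw (vec c) = vec (sie u w c) := by
  rw [siegel_apply, polar_vec, polar_vec, Q_vec, ← bz_and, smul_vec, smul_vec, smul_vec, sie,
    vec_xor, vec_xor, vec_xor, sub_eq_add_neg, sub_eq_add_neg, neg_vec, neg_vec, add_assoc, add_assoc]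

/-- `T(u,w)` -/
noncomputable def T (u w : ℕ) (h : (!(qn u) && !(Bn u w)) = true) : V ≃ₗ[ZMod 2] V :=
  siegel Qm (vec u) (vec w)
    (by rw [Q_vec]; rw [Bool.and_eq_true, Bool.not_eq_true', Bool.not_eq_true'] at h; rw [h.1]; rfl)
    (by rw [polar_vec]; rw [Bool.and_eq_true, Bool.not_eq_true', Bool.not_eq_true'] at h; rw [h.2]; rfl)

theorem T_mem (u w : ℕ) (h : (!(qn u) && !(Bn u w)) = true) : T u w h ∈ E Qm := siegel_mem_E _ _

theorem T_vec (u w : ℕ) (h : (!(qn u) && !(Bn u w)) = true) (c : ℕ) :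
    T u w h (vec c) = vec (sie u w c) := siegel_vec _ _ c

theorem mul_vec {f g : V ≃ₗ[ZMod 2] V} {c d e : ℕ} (hf : f (vec d) = vec e)
    (hg : g (vec c) = vec d) : (f * g) (vec c) = vec e := by
  rw [← hf, ← hg]
  rfl

/-! ### The generators -/

noncomputable def tM : V ≃ₗ[ZMod 2] V := T 4 192 rfl
noncomputable def wM : V ≃ₗ[ZMod 2] V := T 4 192 rfl * (T 32 192 rfl * T 4 192 rfl)
noncomputable def rM : V ≃ₗ[ZMod 2] V := T 4 64 rfl * (T 32 64 rfl * (T 4 64 rfl * wM))
noncomputable def kM : V ≃ₗ[ZMod 2] V := T 1 16 rfl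
noncomputable def nM : V ≃ₗ[ZMod 2] V := T 1 16 rfl * (T 2 8 rfl * T 1 16 rfl)
noncomputable def zM : V ≃ₗ[ZMod 2] V := T 1 2 rfl
noncomputable def sM : V ≃ₗ[ZMod 2] V := T 2 32 rfl
noncomputable def mM : V ≃ₗ[ZMod 2] V := T 2 32 rfl * (T 4 16 rfl * T 2 32 rfl)

/-- image of a code under the linear map with packed columns `M` -/
def app (M c : ℕ) : ℕ :=
  Nat.rec 0 (fun i a => a ^^^ (bif c.testBit i then (M >>> (8 * i)) &&& 255 else 0)) 8

/-- tables of the letters -/
def tab (x : ℕ) : ℕ :=
  bif Nat.beq x 0 then 9530993468927902209 else bif Nat.beq x 1 then 4647719282348655105 else bif Nat.beq x 2 then 4665764467181879809 else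
  bif Nat.beq x 3 then 13871122105527173633 else bif Nat.beq x 4 then 9241421688858739457 else bif Nat.beq x 5 then 9241421654364782850 else
  bif Nat.beq x 6 then 9241421692918825473 else bif Nat.beq x 7 then 9241421826029388289 else 9241404165123605505

/-- letters on codes, as composites of Siegel transformations -/
def sem (x c : ℕ) : ℕ :=
  bif Nat.beq x 0 then sie 4 192 c else
  bif Nat.beq x 1 then sie 4 192 (sie 32 192 (sie 4 192 c)) else
  bif Nat.beq x 2 then sie 4 64 (sie 32 64 (sie 4 64 (sie 4 192 (sie 32 192 (sie 4 192 c))))) else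
  bif Nat.beq x 4 then sie 1 16 c else
  bif Nat.beq x 5 then sie 1 16 (sie 2 8 (sie 1 16 c)) else
  bif Nat.beq x 6 then sie 1 2 c else
  bif Nat.beq x 7 then sie 2 32 c else
  sie 2 32 (sie 4 16 (sie 2 32 c))

theorem allB_sound {n : ℕ} {P : ℕ → Bool} (h : (List.range n).all P = true) : ∀ i < n, P i = true :=
  fun i hi => List.all_eq_true.1 h i (List.mem_range.2 hi)

theorem sem_eq : ∀ x < 9, ∀ c < 256, (Nat.beq x 3 || Nat.beq (sem x c) (app (tab x) c)) = true := by
  intro x hx c hc
  have : (List.range 9).all (fun x => (List.range 256).all fun c =>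
      Nat.beq x 3 || Nat.beq (sem x c) (app (tab x) c)) = true := by decide +kernel
  exact allB_sound (allB_sound this x hx) c hc

theorem app_lt : ∀ x < 9, ∀ c < 256, Nat.blt (app (tab x) c) 256 = true := by
  intro x hx c hc
  have : (List.range 9).all (fun x => (List.range 256).all fun c =>
      Nat.blt (app (tab x) c) 256) = true := by decide +kernel
  exact allB_sound (allB_sound this x hx) c hc

theorem app_inv : ∀ c < 256, Nat.beq (app (tab 2) (app (tab 3) c)) c = true := by
  intro c hc
  have : (List.range 256).all (fun c => Nat.beq (app (tab 2) (app (tab 3) c)) c) = true := by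
    decide +kernel
  exact allB_sound this c hc

/-- the letters -/
noncomputable abbrev ltM : ℕ → (V ≃ₗ[ZMod 2] V) := Rel.lt tM wM rM kM nM zM sM mM

theorem sem_vec_w (c : ℕ) : wM (vec c) = vec (sem 1 c) :=
  mul_vec (T_vec _ _ _ _) (mul_vec (T_vec _ _ _ _) (T_vec _ _ _ _))

theorem sem_vec_r (c : ℕ) : rM (vec c) = vec (sem 2 c) :=
  mul_vec (T_vec _ _ _ _) (mul_vec (T_vec _ _ _ _) (mul_vec (T_vec _ _ _ _) (sem_vec_w c)))

theorem sem_vec_n (c : ℕ) : nM (vec c) = vec (sem 5 c) :=
  mul_vec (T_vec _ _ _ _) (mul_vec (T_vec _ _ _ _) (T_vec _ _ _ _))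

theorem sem_vec_m (c : ℕ) : mM (vec c) = vec (sem 8 c) :=
  mul_vec (T_vec _ _ _ _) (mul_vec (T_vec _ _ _ _) (T_vec _ _ _ _))

theorem sem_key {y : ℕ} (hy : y < 9) (hy3 : y ≠ 3) {c : ℕ} (hc : c < 256) :
    sem y c = app (tab y) c := by
  have := sem_eq y hy c hc
  rw [Bool.or_eq_true] at this
  rcases this with h | h
  · exact absurd (Nat.eq_of_beq_eq_true h) hy3
  · exact Nat.eq_of_beq_eq_true h

theorem lt_vec {x : ℕ} (hx : x < 9) {c : ℕ} (hc : c < 256) : ltM x (vec c) = vec (app (tab x) c) := by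
  by_cases h3 : x = 3
  · subst h3
    have h1 : app (tab 3) c < 256 := Nat.le_of_ble_eq_true (app_lt 3 hx c hc)
    have h2 := sem_vec_r (app (tab 3) c)
    rw [sem_key (by norm_num) (by norm_num) h1, Nat.eq_of_beq_eq_true (app_inv c hc)] at h2
    show rM⁻¹ (vec c) = _
    rw [← h2]
    exact LinearEquiv.symm_apply_apply rM _
  · rw [← sem_key hx h3 hc]
    interval_cases x
    · exact T_vec 4 192 rfl c
    · exact sem_vec_w c
    · exact sem_vec_r c
    · exact absurd rfl h3
    · exact T_vec 1 16 rfl c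
    · exact sem_vec_n c
    · exact T_vec 1 2 rfl c
    · exact T_vec 2 32 rfl c
    · exact sem_vec_m c

/-- image of a code under a word -/
def wd (w : List ℕ) (c : ℕ) : ℕ := w.foldr (fun x a => app (tab x) a) c

theorem wd_lt {w : List ℕ} (hw : ∀ x ∈ w, x < 9) {c : ℕ} (hc : c < 256) : wd w c < 256 := by
  induction w with
  | nil => exact hc
  | cons x w ih =>
    exact Nat.le_of_ble_eq_true (app_lt x (hw x (by simp)) _ (ih fun y hy => hw y (by simp [hy])))

theorem ev_vec {w : List ℕ} (hw : ∀ x ∈ w, x < 9) {c : ℕ} (hc : c < 256) :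
    ev ltM w (vec c) = vec (wd w c) := by
  induction w with
  | nil => rfl
  | cons x w ih =>
    have hw' : ∀ y ∈ w, y < 9 := fun y hy => hw y (by simp [hy])
    rw [ev_cons, LinearEquiv.mul_apply, ih hw', lt_vec (hw x (by simp)) (wd_lt hw' hc)]
    rfl

theorem ext_code {f g : V ≃ₗ[ZMod 2] V} (h : ∀ i < 8, f (vec (1 <<< i)) = g (vec (1 <<< i))) : f = g := by
  have h2 : ∀ i : Ix, vec (1 <<< (idx i)) = Pi.single i 1 := by
    intro i
    funext j
    revert i j
    decide
  apply LinearEquiv.toLinearMap_injective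
  apply LinearMap.pi_ext'
  intro i
  ext
  simp only [LinearMap.comp_apply, LinearMap.single_apply]
  have := h (idx i) (idx_lt i)
  rw [h2 i] at this
  exact congrFun this _

/-- equality of words -/
theorem ev_eq_of_check {u w : List ℕ}
    (h : (u.all (fun x => Nat.blt x 9) && (w.all (fun x => Nat.blt x 9) &&
      (List.range 8).all fun i => Nat.beq (wd u (1 <<< i)) (wd w (1 <<< i)))) = true) :
    ev ltM u = ev ltM w := by
  rw [Bool.and_eq_true, Bool.and_eq_true] at h
  obtain ⟨h1, h2, h3⟩ := h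
  have h1' : ∀ x ∈ u, x < 9 := fun x hx => Nat.le_of_ble_eq_true (List.all_eq_true.1 h1 x hx)
  have h2' : ∀ x ∈ w, x < 9 := fun x hx => Nat.le_of_ble_eq_true (List.all_eq_true.1 h2 x hx)
  apply ext_code
  intro i hi
  have hc : 1 <<< i < 256 := by interval_cases i <;> decide
  rw [ev_vec h1' hc, ev_vec h2' hc, Nat.eq_of_beq_eq_true (allB_sound h3 i hi)]

theorem rels : Rel.Rels tM wM rM kM nM zM sM mM where
  t2 := by
    have := ev_eq_of_check (u := [0,0]) (w := []) (by decide +kernel)
    simpa [ev, Rel.lt, pow_succ, mul_assoc] using this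
  w2 := by
    have := ev_eq_of_check (u := [1,1]) (w := []) (by decide +kernel)
    simpa [ev, Rel.lt, pow_succ, mul_assoc] using this
  k2 := by
    have := ev_eq_of_check (u := [4,4]) (w := []) (by decide +kernel)
    simpa [ev, Rel.lt, pow_succ, mul_assoc] using this
  n2 := by
    have := ev_eq_of_check (u := [5,5]) (w := []) (by decide +kernel)
    simpa [ev, Rel.lt, pow_succ, mul_assoc] using this
  z2 := by
    have := ev_eq_of_check (u := [6,6]) (w := []) (by decide +kernel)
    simpa [ev, Rel.lt, pow_succ, mul_assoc] using this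
  s2 := by
    have := ev_eq_of_check (u := [7,7]) (w := []) (by decide +kernel)
    simpa [ev, Rel.lt, pow_succ, mul_assoc] using this
  r3 := by
    have := ev_eq_of_check (u := [2,2,2]) (w := []) (by decide +kernel)
    simpa [ev, Rel.lt, pow_succ, mul_assoc] using this
  wr := by
    have := ev_eq_of_check (u := [1,2,1,2]) (w := []) (by decide +kernel)
    simpa [ev, Rel.lt, pow_succ, mul_assoc] using this
  wt := by
    have := ev_eq_of_check (u := [1,0,1,0,1,0]) (w := []) (by decide +kernel)
    simpa [ev, Rel.lt, pow_succ, mul_assoc] using this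
  tr := by
    have := ev_eq_of_check (u := [0,2,0,2,0,2]) (w := []) (by decide +kernel)
    simpa [ev, Rel.lt, pow_succ, mul_assoc] using this
  trtr := by
    have := ev_eq_of_check (u := [0,3,0,2,0,3,0,2]) (w := []) (by decide +kernel)
    simpa [ev, Rel.lt, pow_succ, mul_assoc] using this
  kn := by
    have := ev_eq_of_check (u := [4,5,4,5,4,5]) (w := []) (by decide +kernel)
    simpa [ev, Rel.lt, pow_succ, mul_assoc] using this
  kt := by
    have := ev_eq_of_check (u := [4,0,4,0]) (w := []) (by decide +kernel)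
    simpa [ev, Rel.lt, pow_succ, mul_assoc] using this
  kw := by
    have := ev_eq_of_check (u := [4,1,4,1]) (w := []) (by decide +kernel)
    simpa [ev, Rel.lt, pow_succ, mul_assoc] using this
  kr := by
    have := ev_eq_of_check (u := [4,3,4,2]) (w := []) (by decide +kernel)
    simpa [ev, Rel.lt, pow_succ, mul_assoc] using this
  nt := by
    have := ev_eq_of_check (u := [5,0,5,0]) (w := []) (by decide +kernel)
    simpa [ev, Rel.lt, pow_succ, mul_assoc] using this
  nw := by
    have := ev_eq_of_check (u := [5,1,5,1]) (w := []) (by decide +kernel)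
    simpa [ev, Rel.lt, pow_succ, mul_assoc] using this
  nr := by
    have := ev_eq_of_check (u := [5,3,5,2]) (w := []) (by decide +kernel)
    simpa [ev, Rel.lt, pow_succ, mul_assoc] using this
  zt := by
    have := ev_eq_of_check (u := [6,0,6,0]) (w := []) (by decide +kernel)
    simpa [ev, Rel.lt, pow_succ, mul_assoc] using this
  zw := by
    have := ev_eq_of_check (u := [6,1,6,1]) (w := []) (by decide +kernel)
    simpa [ev, Rel.lt, pow_succ, mul_assoc] using this
  zr := by
    have := ev_eq_of_check (u := [6,3,6,2]) (w := []) (by decide +kernel)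
    simpa [ev, Rel.lt, pow_succ, mul_assoc] using this
  zk := by
    have := ev_eq_of_check (u := [6,4,6,4]) (w := []) (by decide +kernel)
    simpa [ev, Rel.lt, pow_succ, mul_assoc] using this
  zn := by
    have := ev_eq_of_check (u := [6,5,6,5]) (w := []) (by decide +kernel)
    simpa [ev, Rel.lt, pow_succ, mul_assoc] using this
  zs := by
    have := ev_eq_of_check (u := [6,7,6,7]) (w := []) (by decide +kernel)
    simpa [ev, Rel.lt, pow_succ, mul_assoc] using this
  sr := by
    have := ev_eq_of_check (u := [7,3,7,2]) (w := []) (by decide +kernel)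
    simpa [ev, Rel.lt, pow_succ, mul_assoc] using this
  ks := by
    have := ev_eq_of_check (u := [4,7,4,7,5,7,5]) (w := []) (by decide +kernel)
    simpa [ev, Rel.lt, pow_succ, mul_assoc] using this
  swt := by
    have := ev_eq_of_check (u := [7,1,0,1,7,1,0,1]) (w := []) (by decide +kernel)
    simpa [ev, Rel.lt, pow_succ, mul_assoc] using this
  sw := by
    have := ev_eq_of_check (u := [7,1,7,1,7,1,7,1]) (w := []) (by decide +kernel)
    simpa [ev, Rel.lt, pow_succ, mul_assoc] using this
  sn := by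
    have := ev_eq_of_check (u := [7,5,7,5,7,5,7,5]) (w := []) (by decide +kernel)
    simpa [ev, Rel.lt, pow_succ, mul_assoc] using this
  five := by
    have := ev_eq_of_check (u := [7,0,7,0,3,0,2,7,3,0,2,2,0,3,7,2,0,3,1,7,1]) (w := []) (by decide +kernel)
    simpa [ev, Rel.lt, pow_succ, mul_assoc] using this
  zz := by
    have := ev_eq_of_check (u := [7,5,1,7,1,5,7,5,1,7,1,5]) (w := [6]) (by decide +kernel)
    simpa [ev, Rel.lt, pow_succ, mul_assoc] using this
  m2 := by
    have := ev_eq_of_check (u := [8,8]) (w := []) (by decide +kernel)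
    simpa [ev, Rel.lt, pow_succ, mul_assoc] using this
  sm := by
    have := ev_eq_of_check (u := [7,8,7,8,7,8]) (w := []) (by decide +kernel)
    simpa [ev, Rel.lt, pow_succ, mul_assoc] using this
  nm := by
    have := ev_eq_of_check (u := [5,8,5,8,5,8]) (w := []) (by decide +kernel)
    simpa [ev, Rel.lt, pow_succ, mul_assoc] using this
  mr := by
    have := ev_eq_of_check (u := [8,3,8,2]) (w := []) (by decide +kernel)
    simpa [ev, Rel.lt, pow_succ, mul_assoc] using this
  ksm := by
    have := ev_eq_of_check (u := [4,7,4,7,8,4,8]) (w := []) (by decide +kernel)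
    simpa [ev, Rel.lt, pow_succ, mul_assoc] using this
  wsm := by
    have := ev_eq_of_check (u := [1,7,1,8,1,7,1,8]) (w := []) (by decide +kernel)
    simpa [ev, Rel.lt, pow_succ, mul_assoc] using this
  mw := by
    have := ev_eq_of_check (u := [8,1,8,1,8,1,8,1]) (w := []) (by decide +kernel)
    simpa [ev, Rel.lt, pow_succ, mul_assoc] using this
  last := by
    have := ev_eq_of_check (u := [8,7,0,7,0,1,7,1,8,0]) (w := []) (by decide +kernel)
    simpa [ev, Rel.lt, pow_succ, mul_assoc] using this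

end Cfsg.Agent.TypeO8Minus.Model
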