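import Mathlib
import Cfsg.Agent.TypeO8Minus.Model

/-!
The eight explicit elements generate `E Qm = Ω₈⁻(2)`.
-/

set_option autoImplicit false
set_option maxRecDepth 100000

namespace Cfsg.Agent.TypeO8Minus.Gener

open QuadraticMap Cfsg.Agent.LieClassical.OrthCore Cfsg.Agent.LieClassical.OrthForms
  Cfsg.Agent.SporadicRecognition.CosetCert Cfsg.Agent.TypeO8Minus.Model

/-- words mapping `e₁` to the singular vector with code `c` -/
def orb : List (List ℕ) := [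
  [], [], [5], [4,5], [8,5], [8,4,5], [7,8,5], [7,8,4,5], [5,8,1,8,5], [], [5,8,1,8,4,5], [], 
  [5,8,1,7,8,5], [], [5,8,1,7,8,4,5], [], [8,1,8,5], [8,1,8,4,5], [], [], [8,1,7,8,5], 
  [8,1,7,8,4,5], [], [], [4,5,8,1,8,5], [], [], [4,5,8,1,8,4,5], [4,5,8,1,7,8,5], [], [], 
  [4,5,8,1,7,8,4,5], [1,8,5], [1,8,4,5], [1,7,8,5], [1,7,8,4,5], [], [], [], [], [5,7,8,1,8,5], 
  [], [5,7,8,1,8,4,5], [], [], [5,7,8,1,7,8,5], [], [5,7,8,1,7,8,4,5], [7,8,1,8,5], 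
  [7,8,1,8,4,5], [], [], [], [], [7,8,1,7,8,5], [7,8,1,7,8,4,5], [7,4,5,8,1,8,5], [], [], 
  [7,4,5,8,1,8,4,5], [], [4,5,7,8,1,7,8,5], [7,4,5,8,1,7,8,5], [], [], [], [], [], [], [], [], 
  [], [], [5,8,0,2,0,1,8,5], [], [5,8,0,2,0,1,8,4,5], [], [5,8,7,0,2,0,1,8,5], [], 
  [5,8,7,0,2,0,1,8,4,5], [], [], [8,0,2,0,1,8,5], [8,0,2,0,1,8,4,5], [], [], [8,7,0,2,0,1,8,5], 
  [8,7,0,2,0,1,8,4,5], [], [4,5,8,0,2,0,1,8,5], [4,5,8,0,2,0,1,8,4,5], [], [], 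
  [4,5,8,7,0,2,0,1,8,5], [4,5,8,7,0,2,0,1,8,4,5], [], [], [], [], [], [0,2,0,1,8,5], 
  [0,2,0,1,8,4,5], [7,0,2,0,1,8,5], [7,0,2,0,1,8,4,5], [], [5,7,8,0,2,0,1,8,5], [], 
  [5,7,8,0,2,0,1,8,4,5], [5,0,2,0,7,8,1,8,5], [], [5,0,2,0,7,8,1,8,4,5], [], [], [], 
  [7,8,0,2,0,1,8,5], [7,8,0,2,0,1,8,4,5], [0,2,0,7,8,1,8,5], [0,2,0,7,8,1,8,4,5], [], [], [], 
  [7,4,5,8,0,2,0,1,8,5], [7,4,5,8,0,2,0,1,8,4,5], [], [0,2,0,7,4,5,8,1,8,5], [], [], 
  [0,2,0,7,4,5,8,1,8,4,5], [], [], [], [], [], [], [], [], [], [5,8,2,0,1,8,5], [], 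
  [5,8,2,0,1,8,4,5], [], [5,8,7,2,0,1,8,5], [], [5,8,7,2,0,1,8,4,5], [], [], [8,2,0,1,8,5], 
  [8,2,0,1,8,4,5], [], [], [8,7,2,0,1,8,5], [8,7,2,0,1,8,4,5], [], [4,5,8,2,0,1,8,5], 
  [4,5,8,2,0,1,8,4,5], [], [], [4,5,8,7,2,0,1,8,5], [4,5,8,7,2,0,1,8,4,5], [], [], [], [], [], 
  [2,0,1,8,5], [2,0,1,8,4,5], [7,2,0,1,8,5], [7,2,0,1,8,4,5], [], [5,7,8,2,0,1,8,5], [], 
  [5,7,8,2,0,1,8,4,5], [5,2,0,7,8,1,8,5], [], [5,2,0,7,8,1,8,4,5], [], [], [], [7,8,2,0,1,8,5], 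
  [7,8,2,0,1,8,4,5], [2,0,7,8,1,8,5], [2,0,7,8,1,8,4,5], [], [], [], [7,4,5,8,2,0,1,8,5], 
  [7,4,5,8,2,0,1,8,4,5], [], [2,0,7,4,5,8,1,8,5], [], [], [2,0,7,4,5,8,1,8,4,5], [], [], [], [], 
  [], [], [], [], [], [5,8,0,1,8,5], [], [5,8,0,1,8,4,5], [], [5,8,7,0,1,8,5], [], 
  [5,8,7,0,1,8,4,5], [], [], [8,0,1,8,5], [8,0,1,8,4,5], [], [], [8,7,0,1,8,5], [8,7,0,1,8,4,5], 
  [], [4,5,8,0,1,8,5], [4,5,8,0,1,8,4,5], [], [], [4,5,8,7,0,1,8,5], [4,5,8,7,0,1,8,4,5], [], [], 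
  [], [], [], [0,1,8,5], [0,1,8,4,5], [7,0,1,8,5], [7,0,1,8,4,5], [], [5,7,8,0,1,8,5], [], 
  [5,7,8,0,1,8,4,5], [5,0,7,8,1,8,5], [], [5,0,7,8,1,8,4,5], [], [], [], [7,8,0,1,8,5], 
  [7,8,0,1,8,4,5], [0,7,8,1,8,5], [0,7,8,1,8,4,5], [], [], [], [7,4,5,8,0,1,8,5], 
  [7,4,5,8,0,1,8,4,5], [], [0,7,4,5,8,1,8,5], [], [], [0,7,4,5,8,1,8,4,5]]

/-- words for `T(e₁, b)`, `b` a basis vector -/
def base : List (List ℕ) := [[], [6], [8,6,8], [], [4], [5,7,5], [3,5,8,0,8,5,2], [2,5,8,0,8,5,3]]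

def sw (w : ℕ) : List ℕ := (List.range 8).flatMap fun i => bif w.testBit i then base.getD i [] else []

/-- the group generated by the letters -/
noncomputable abbrev X : Subgroup (V ≃ₗ[ZMod 2] V) :=
  Subgroup.closure (Rel.gens tM wM rM kM nM zM sM mM)

theorem ltM_mem {x : ℕ} (hx : x < 9) : ltM x ∈ X := by
  rw [X, ← Rel.closure_eq]
  exact Subgroup.subset_closure ⟨x, hx, rfl⟩

theorem ev_mem {w : List ℕ} (hw : ∀ x ∈ w, x < 9) : ev ltM w ∈ X := by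
  induction w with
  | nil => exact X.one_mem
  | cons x w ih =>
    rw [ev_cons]
    exact X.mul_mem (ltM_mem (hw x (by simp))) (ih fun y hy => hw y (by simp [hy]))

theorem all_lt {w : List ℕ} (h : (w.all fun x => Nat.blt x 9) = true) : ∀ x ∈ w, x < 9 :=
  fun x hx => Nat.le_of_ble_eq_true (List.all_eq_true.1 h x hx)

theorem orb_check : ∀ c < 256, (qn c || (Nat.beq c 0 || (((orb.getD c []).all fun x => Nat.blt x 9) &&
    Nat.beq (wd (orb.getD c []) 1) c))) = true := by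
  intro c hc
  have : (List.range 256).all (fun c => (qn c || (Nat.beq c 0 ||
      (((orb.getD c []).all fun x => Nat.blt x 9) && Nat.beq (wd (orb.getD c []) 1) c)))) = true := by
    decide +kernel
  exact allB_sound this c hc

theorem sw_check : ∀ w < 256, (w.testBit 3 || (((sw w).all fun x => Nat.blt x 9) &&
    (List.range 8).all fun i => Nat.beq (wd (sw w) (1 <<< i)) (sie 1 w (1 <<< i)))) = true := by
  intro w hw
  have : (List.range 256).all (fun w => (w.testBit 3 || (((sw w).all fun x => Nat.blt x 9) &&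
      (List.range 8).all fun i => Nat.beq (wd (sw w) (1 <<< i)) (sie 1 w (1 <<< i))))) = true := by
    decide +kernel
  exact allB_sound this w hw

theorem Bn_one_check : ∀ w < 256, (w.testBit 3 == Bn 1 w) = true := by
  intro w hw
  have : (List.range 256).all (fun w => (w.testBit 3 == Bn 1 w)) = true := by
    decide +kernel
  exact allB_sound this w hw

theorem siegel_one_mem {w : V} (hu : Qm (vec 1) = 0) (hw : polar Qm (vec 1) w = 0) :
    siegel Qm (vec 1) w hu hw ∈ X := by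
  obtain ⟨c, hc, rfl⟩ := exists_vec w
  have h1 := hw
  rw [polar_vec, bz_eq_zero, ← eq_of_beq (Bn_one_check c hc)] at h1
  have h2 := sw_check c hc
  rw [h1, Bool.false_or, Bool.and_eq_true] at h2
  have h3 := all_lt h2.1
  have : siegel Qm (vec 1) (vec c) hu hw = ev ltM (sw c) := by
    apply ext_code
    intro i hi
    have hi' : 1 <<< i < 256 := by interval_cases i <;> decide
    rw [ev_vec h3 hi', siegel_vec, Nat.eq_of_beq_eq_true (allB_sound h2.2 i hi)]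
  rw [this]
  exact ev_mem h3

theorem exists_map {u : V} (hu : Qm u = 0) (hu0 : u ≠ 0) : ∃ g ∈ X, g (vec 1) = u := by
  obtain ⟨c, hc, rfl⟩ := exists_vec u
  rw [Q_vec, bz_eq_zero] at hu
  have hc0 : Nat.beq c 0 = false := by
    rcases h : Nat.beq c 0 with _ | _
    · rfl
    · exfalso
      apply hu0
      rw [Nat.eq_of_beq_eq_true h, vec_zero]
  have h2 := orb_check c hc
  rw [hu, hc0, Bool.false_or, Bool.false_or, Bool.and_eq_true] at h2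
  have h3 := all_lt h2.1
  refine ⟨_, ev_mem h3, ?_⟩
  rw [ev_vec h3 (by norm_num), Nat.eq_of_beq_eq_true h2.2]

theorem X_le : X ≤ E Qm := by
  rw [X, Subgroup.closure_le]
  have hT := T_mem
  have hw : wM ∈ E Qm := mul_mem (T_mem _ _ _) (mul_mem (T_mem _ _ _) (T_mem _ _ _))
  intro y hy
  simp only [Rel.gens, Set.mem_insert_iff, Set.mem_singleton_iff] at hy
  rcases hy with rfl | rfl | rfl | rfl | rfl | rfl | rfl | rfl
  · exact T_mem _ _ _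
  · exact hw
  · exact mul_mem (T_mem _ _ _) (mul_mem (T_mem _ _ _) (mul_mem (T_mem _ _ _) hw))
  · exact T_mem _ _ _
  · exact mul_mem (T_mem _ _ _) (mul_mem (T_mem _ _ _) (T_mem _ _ _))
  · exact T_mem _ _ _
  · exact T_mem _ _ _
  · exact mul_mem (T_mem _ _ _) (mul_mem (T_mem _ _ _) (T_mem _ _ _))

theorem siegel_mem {u w : V} (hu : Qm u = 0) (hw : polar Qm u w = 0) :
    siegel Qm u w hu hw ∈ X := by
  by_cases hu0 : u = 0
  · subst hu0
    have : siegel Qm 0 w hu hw = 1 := by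
      ext v
      rw [siegel_apply, polar_zero_left, smul_zero, zero_smul, smul_zero]
      simp
    rw [this]
    exact X.one_mem
  · obtain ⟨g, hg, rfl⟩ := exists_map hu hu0
    have hgO : g ∈ O Qm := E_le_O (X_le hg)
    have h1 : Qm (vec 1) = 0 := by rw [← mem_O.1 hgO]; exact hu
    have h2 : g (g⁻¹ w) = w := LinearEquiv.apply_symm_apply g w
    have h3 : polar Qm (vec 1) (g⁻¹ w) = 0 := by
      rw [← polar_map hgO, h2]; exact hw
    have h4 := siegel_conj hgO h1 h3 hu (by rw [h2]; exact hw)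
    have h5 : siegel Qm (g (vec 1)) w hu hw = g * siegel Qm (vec 1) (g⁻¹ w) h1 h3 * g⁻¹ := by
      rw [h4]
      congr 1
      exact h2.symm
    rw [h5]
    exact X.mul_mem (X.mul_mem hg (siegel_one_mem h1 h3)) (X.inv_mem hg)

/-- **The eight elements generate `Ω₈⁻(2)`.** -/
theorem X_eq : X = E Qm := by
  apply le_antisymm X_le
  rw [E, Subgroup.closure_le]
  rintro _ ⟨u, w, hu, hw, rfl⟩
  exact siegel_mem hu hw

end Cfsg.Agent.TypeO8Minus.Gener
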