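import Mathlib
import Cfsg.Prelude.Def_Classical
import Cfsg.Agent.LieClassical.OrthCenter
import Cfsg.Agent.LieClassical.OrthTrans
import Cfsg.Agent.LieClassical.OmegaReindex
import Cfsg.Agent.S0294
import Cfsg.Agent.S0297
import Cfsg.Agent.TypeO8Minus.Gener

/-!
A nontrivial group generated by elements satisfying the relations `Rel.Rels` is isomorphic to `PΩ₈⁻(2)`.
-/

set_option autoImplicit false
set_option maxRecDepth 100000

namespace Cfsg.Agent.TypeO8Minus.Ident

open QuadraticMap Cfsg.Agent.LieClassical.OrthCore Cfsg.Agent.LieClassical.OrthForms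
  Cfsg.Agent.LieClassical.OrthFinite
  Cfsg.Agent.SporadicRecognition.CosetCert Cfsg.Agent.TypeO8Minus.Model
  Cfsg.Agent.TypeO8Minus.Gener

theorem aniso : ∀ z₁ z₂ : ZMod 2, z₁ ^ 2 + 1 * z₁ * z₂ + 1 * z₂ ^ 2 = 0 → z₁ = 0 ∧ z₂ = 0 := by decide

theorem nondeg : Nondeg Qm := nondeg_minusForm 3 (ZMod 2) 1 1 aniso

theorem good : Cfsg.Agent.LieClassical.OrthTrans.Good Qm :=
  good_of_finite nondeg (by rw [Module.finrank_fintype_fun_eq_card]; decide)

/-- `Ω₈⁻(2)` as a matrix group and as the group generated by the Siegel transformations. -/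
noncomputable def omEquiv : Cfsg.Omega (ZMod 2) (⇑Qm) ≃* E Qm :=
  (omegaEquiv Qm).trans (MulEquiv.subgroupCongr good.commutator_eq_E)

theorem center_eq : Subgroup.center (Cfsg.Omega (ZMod 2) (⇑Qm)) = ⊥ := by
  have h := Cfsg.Agent.LieClassical.OrthCenter.center_omega_eq_bot_char_two
    (Q := Cfsg.Agent.LieClassical.OmegaReindex.quadMinus 3 (ZMod 2) 1 1) (by decide)
    (Cfsg.Agent.LieClassical.OmegaReindex.quadMinus_nondegenerate aniso) (by decide)
    (Cfsg.Agent.LieClassical.OmegaReindex.quadMinus_isotropic (by norm_num) _ _)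
  rw [Cfsg.Agent.LieClassical.OmegaReindex.coe_quadMinus] at h
  rw [coe_minusForm]
  exact h

noncomputable def pomEquiv : Cfsg.POmega (ZMod 2) (⇑Qm) ≃* E Qm :=
  ((QuotientGroup.quotientMulEquivOfEq center_eq).trans QuotientGroup.quotientBot).trans omEquiv

instance simple : IsSimpleGroup (E Qm) := by
  have h := Cfsg.Agent.S0297.result (F := ZMod 2) 4 le_rfl 1 1 aniso
  have h' : IsSimpleGroup (Cfsg.POmega (ZMod 2) (⇑Qm)) := by
    rw [coe_minusForm]
    exact h
  exact (MulEquiv.isSimpleGroup_congr pomEquiv).1 h'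

theorem card_E : Nat.card (E Qm) = 197406720 := by
  have h := Cfsg.Agent.S0294.result (F := ZMod 2) (q := 2) (by decide) 4 le_rfl 1 1 aniso
  have h1 : Nat.card (Cfsg.POmega (ZMod 2) (⇑Qm)) = 197406720 := by
    rw [coe_minusForm]
    have e : Nat.gcd 4 (2 ^ 4 + 1) = 1 := by decide
    rw [e, one_mul] at h
    refine h.trans ?_
    simp [Finset.prod_range_succ]
  rw [← h1]
  exact (Nat.card_congr pomEquiv.toEquiv).symm

/-! ### Pairs -/

section

variable {G H : Type*} [Group G] [Group H]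

theorem Rels_prod {t w r k n z s m : G} (h : Rel.Rels t w r k n z s m)
    {t' w' r' k' n' z' s' m' : H} (h' : Rel.Rels t' w' r' k' n' z' s' m') :
    Rel.Rels (t, t') (w, w') (r, r') (k, k') (n, n') (z, z') (s, s') (m, m') where
  t2 := Prod.ext h.t2 h'.t2
  w2 := Prod.ext h.w2 h'.w2
  k2 := Prod.ext h.k2 h'.k2
  n2 := Prod.ext h.n2 h'.n2
  z2 := Prod.ext h.z2 h'.z2
  s2 := Prod.ext h.s2 h'.s2
  r3 := Prod.ext h.r3 h'.r3
  wr := Prod.ext h.wr h'.wr
  wt := Prod.ext h.wt h'.wt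
  tr := Prod.ext h.tr h'.tr
  trtr := Prod.ext h.trtr h'.trtr
  kn := Prod.ext h.kn h'.kn
  kt := Prod.ext h.kt h'.kt
  kw := Prod.ext h.kw h'.kw
  kr := Prod.ext h.kr h'.kr
  nt := Prod.ext h.nt h'.nt
  nw := Prod.ext h.nw h'.nw
  nr := Prod.ext h.nr h'.nr
  zt := Prod.ext h.zt h'.zt
  zw := Prod.ext h.zw h'.zw
  zr := Prod.ext h.zr h'.zr
  zk := Prod.ext h.zk h'.zk
  zn := Prod.ext h.zn h'.zn
  zs := Prod.ext h.zs h'.zs
  sr := Prod.ext h.sr h'.sr
  ks := Prod.ext h.ks h'.ks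
  swt := Prod.ext h.swt h'.swt
  sw := Prod.ext h.sw h'.sw
  sn := Prod.ext h.sn h'.sn
  five := Prod.ext h.five h'.five
  zz := Prod.ext h.zz h'.zz
  m2 := Prod.ext h.m2 h'.m2
  sm := Prod.ext h.sm h'.sm
  nm := Prod.ext h.nm h'.nm
  mr := Prod.ext h.mr h'.mr
  ksm := Prod.ext h.ksm h'.ksm
  wsm := Prod.ext h.wsm h'.wsm
  mw := Prod.ext h.mw h'.mw
  last := Prod.ext h.last h'.last

end

section main

variable {G : Type*} [Group G] {t w r k n z s m : G}

/-- the group of pairs -/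
noncomputable abbrev Γ (t w r k n z s m : G) : Subgroup (G × (V ≃ₗ[ZMod 2] V)) :=
  Subgroup.closure (Rel.gens (t, tM) (w, wM) (r, rM) (k, kM) (n, nM) (z, zM) (s, sM) (m, mM))

theorem map_fst (t w r k n z s m : G) :
    (Γ t w r k n z s m).map (MonoidHom.fst G (V ≃ₗ[ZMod 2] V)) =
      Subgroup.closure (Rel.gens t w r k n z s m) := by
  rw [Γ, MonoidHom.map_closure]
  congr 1
  ext x
  simp [Rel.gens, Set.image_insert_eq]

theorem map_snd (t w r k n z s m : G) :
    (Γ t w r k n z s m).map (MonoidHom.snd G (V ≃ₗ[ZMod 2] V)) = E Qm := by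
  rw [← X_eq, X, Γ, MonoidHom.map_closure]
  congr 1
  ext x
  simp [Rel.gens, Set.image_insert_eq]

theorem lt_pair (t w r k n z s m : G) (x : ℕ) :
    Rel.lt (t, tM) (w, wM) (r, rM) (k, kM) (n, nM) (z, zM) (s, sM) (m, mM) x =
      (Rel.lt t w r k n z s m x, ltM x) := by
  rcases x with _ | _ | _ | _ | _ | _ | _ | _ | x <;> rfl

theorem lt_mem_closure (t w r k n z s m : G) {x : ℕ} (hx : x < 9) :
    Rel.lt t w r k n z s m x ∈ Subgroup.closure (Rel.gens t w r k n z s m) := by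
  rw [← Rel.closure_eq]
  exact Subgroup.subset_closure ⟨x, hx, rfl⟩

/-- **Identification.** -/
theorem exists_equiv (h : Rel.Rels t w r k n z s m)
    (hne : Subgroup.closure (Rel.gens t w r k n z s m) ≠ ⊥) :
    ∃ e : Subgroup.closure (Rel.gens t w r k n z s m) ≃* E Qm,
      ∀ (x : ℕ) (hx : x < 9),
        ((e ⟨Rel.lt t w r k n z s m x, lt_mem_closure t w r k n z s m hx⟩ : E Qm) :
          V ≃ₗ[ZMod 2] V) = ltM x := by
  obtain ⟨hfin, hcard⟩ := Rel.card_closure_le (Rels_prod h rels)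
  have hfin' : Finite (Γ t w r k n z s m) := hfin
  -- second projection
  let f2 : Γ t w r k n z s m →* E Qm :=
    ((MonoidHom.snd G (V ≃ₗ[ZMod 2] V)).comp (Γ t w r k n z s m).subtype).codRestrict (E Qm)
      (fun x => by
        rw [← map_snd t w r k n z s m]
        exact ⟨x, x.2, rfl⟩)
  have hf2s : Function.Surjective f2 := by
    rintro ⟨y, hy⟩
    rw [← map_snd t w r k n z s m] at hy
    obtain ⟨x, hx, rfl⟩ := hy
    exact ⟨⟨x, hx⟩, rfl⟩
  have hf2 : Function.Bijective f2 := by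
    have := Fintype.ofFinite (Γ t w r k n z s m)
    have hfE : Finite (E Qm) := Finite.of_surjective f2 hf2s
    have := Fintype.ofFinite (E Qm)
    rw [Fintype.bijective_iff_surjective_and_card]
    refine ⟨hf2s, ?_⟩
    apply le_antisymm
    · have h1 := card_E
      have h2 : Nat.card (Γ t w r k n z s m) ≤ 197406720 := hcard
      rw [← h1, Nat.card_eq_fintype_card, Nat.card_eq_fintype_card] at h2
      exact h2
    · exact Fintype.card_le_of_surjective f2 hf2s
  let e2 : Γ t w r k n z s m ≃* E Qm := MulEquiv.ofBijective f2 hf2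
  have hsimp : IsSimpleGroup (Γ t w r k n z s m) := (MulEquiv.isSimpleGroup_congr e2).2 simple
  -- first projection
  let f1 : Γ t w r k n z s m →* Subgroup.closure (Rel.gens t w r k n z s m) :=
    ((MonoidHom.fst G (V ≃ₗ[ZMod 2] V)).comp (Γ t w r k n z s m).subtype).codRestrict _
      (fun x => by
        rw [← map_fst t w r k n z s m]
        exact ⟨x, x.2, rfl⟩)
  have hf1s : Function.Surjective f1 := by
    rintro ⟨y, hy⟩
    have hy' := hy
    rw [← map_fst t w r k n z s m] at hy'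
    obtain ⟨x, hx, h1⟩ := hy'
    exact ⟨⟨x, hx⟩, Subtype.ext h1⟩
  have hf1 : Function.Bijective f1 := by
    refine ⟨?_, hf1s⟩
    rw [← MonoidHom.ker_eq_bot_iff]
    rcases (inferInstance : f1.ker.Normal).eq_bot_or_eq_top with h1 | h1
    · exact h1
    · exfalso
      apply hne
      rw [Subgroup.eq_bot_iff_forall]
      intro y hy
      obtain ⟨x, hx⟩ := hf1s ⟨y, hy⟩
      have h2 : x ∈ f1.ker := by rw [h1]; trivial
      rw [MonoidHom.mem_ker] at h2
      rw [h2] at hx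
      exact (congrArg Subtype.val hx).symm
  let e1 : Γ t w r k n z s m ≃* Subgroup.closure (Rel.gens t w r k n z s m) :=
    MulEquiv.ofBijective f1 hf1
  refine ⟨e1.symm.trans e2, ?_⟩
  intro x hx
  let y : Γ t w r k n z s m := ⟨(Rel.lt t w r k n z s m x, ltM x), by
    rw [← lt_pair]
    exact lt_mem_closure _ _ _ _ _ _ _ _ hx⟩
  have hy : e1 y = ⟨Rel.lt t w r k n z s m x, lt_mem_closure t w r k n z s m hx⟩ := rfl
  rw [← hy, MulEquiv.trans_apply, MulEquiv.symm_apply_apply]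
  rfl

/-- the disjunct of S1763 -/
theorem nonempty_equiv (h : Rel.Rels t w r k n z s m)
    (hne : Subgroup.closure (Rel.gens t w r k n z s m) ≠ ⊥) :
    Nonempty (Subgroup.closure (Rel.gens t w r k n z s m) ≃*
      Cfsg.POmega (ZMod 2) (Cfsg.quadFormMinus 3 (ZMod 2) 1 1)) := by
  obtain ⟨e, -⟩ := exists_equiv h hne
  rw [← coe_minusForm]
  exact ⟨e.trans pomEquiv.symm⟩

/-- conclusion for a group generated by such elements -/
theorem main (h : Rel.Rels t w r k n z s m)
    (htop : Subgroup.closure (Rel.gens t w r k n z s m) = ⊤) [Nontrivial G] :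
    ∃ (F : Type) (_ : Field F) (_ : Fintype F), Fintype.card F = 2 ∧
      ∃ a b : F, (∀ z₁ z₂ : F, z₁ ^ 2 + a * z₁ * z₂ + b * z₂ ^ 2 = 0 → z₁ = 0 ∧ z₂ = 0) ∧
        Nonempty (G ≃* Cfsg.POmega F (Cfsg.quadFormMinus 3 F a b)) := by
  have hne : Subgroup.closure (Rel.gens t w r k n z s m) ≠ ⊥ := by
    rw [htop]
    exact top_ne_bot
  obtain ⟨e⟩ := nonempty_equiv h hne
  refine ⟨ZMod 2, inferInstance, inferInstance, by decide, 1, 1, aniso, ⟨?_⟩⟩
  exact (Subgroup.topEquiv.symm.trans (MulEquiv.subgroupCongr htop.symm)).trans e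

end main

end Cfsg.Agent.TypeO8Minus.Ident
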