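import Cfsg.Agent.HNType.Lin
import Cfsg.Agent.LargeExtra.Transfer
import Cfsg.Agent.LargeExtra.FlipOuter

/-!
# The case `Ω₈⁻(2)` of S1763: the outer element `σ` is not induced (helper43)

`σ` = the Siegel element of the totally singular plane `T = ⟨v, w⟩`, `S = T^⊥`. `KF h N σ v w β`: the facts used.
`sigma_not : (G without subgroup of index two) → KF h N σ v w β → σ ∉ h.act.range`.
-/

set_option autoImplicit false

namespace Cfsg.Agent.TypeO8Minus.KillTwo

open Cfsg.Agent.Co2Type.Quad Cfsg.Agent.LargeExtra.Base Cfsg.Agent.LargeExtra.Local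
open Cfsg.Agent.LargeExtra.KillNine.EGroup
open Cfsg.Agent.HNType.Iface Cfsg.Agent.HNType.Quot Cfsg.Agent.HNType.Lin

variable {G : Type*} [Group G] {Q : Subgroup G} {z : G}

/-- The facts used. -/
structure KF (h : Large Q z) (N : Subgroup (h.V ≃ₗ[ZMod 2] h.V)) (σ : h.V ≃ₗ[ZMod 2] h.V) (v w β : h.V) :
    Prop where
  card_V : Nat.card h.V = 256
  q_v : h.q v = 0
  q_w : h.q w = 0
  b_vw : h.b v w = 0
  v_ne : v ≠ 0
  w_ne : w ≠ 0
  vw_ne : v ≠ w
  H_le : ∀ c, h.act c ∈ N ∨ σ * h.act c ∈ N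
  sigma_def : ∀ x, σ x = x + h.b w x • v + h.b v x • w
  sigma_not : σ ∉ N
  odd : ∃ c, h.act c * h.act c * h.act c = 1 ∧ h.act c v = w ∧ h.act c w = v + w
  q_β : h.q β = 1
  β_mem : InS h v w β
  small : ∀ c, (∀ x, InS h v w x → h.b β x = 0 → InT h v w (h.act c x + x)) → h.act c = 1 ∨ h.act c = σ
  fus : ∀ x : Q, IsConj z (x : G) → h.pr x ≠ v ∧ h.pr x ≠ w ∧ h.pr x ≠ w + v

variable {h : Large Q z} {N : Subgroup (h.V ≃ₗ[ZMod 2] h.V)} {σ : h.V ≃ₗ[ZMod 2] h.V} {v w β : h.V}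

theorem zm (c : ZMod 2) : c = 0 ∨ c = 1 := by revert c; decide

/-- the preimage of `N` in `C_G(z)` -/
noncomputable def C0 (h : Large Q z) (N : Subgroup (h.V ≃ₗ[ZMod 2] h.V)) : Subgroup G :=
  (N.comap h.act).map (Subgroup.centralizer ({z} : Set G)).subtype

theorem mem_C0 {x : G} :
    x ∈ C0 h N ↔ ∃ hx : x ∈ Subgroup.centralizer ({z} : Set G), h.act ⟨x, hx⟩ ∈ N := by
  constructor
  · rintro ⟨y, hy, rfl⟩
    exact ⟨y.2, hy⟩
  · rintro ⟨hx, hx'⟩
    exact ⟨⟨x, hx⟩, hx', rfl⟩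

theorem C0_le : C0 h N ≤ Subgroup.centralizer ({z} : Set G) := fun _ hx => (mem_C0.1 hx).1

theorem vw_self (F : KF h N σ v w β) : h.b v v = 0 ∧ h.b w w = 0 ∧ h.b w v = 0 :=
  ⟨h.b_self v, h.b_self w, by rw [h.b_comm]; exact F.b_vw⟩

theorem sigma_S (F : KF h N σ v w β) {x : h.V} (hx : InS h v w x) : σ x = x := by
  rw [F.sigma_def, hx.1, hx.2, zero_smul, zero_smul, add_zero, add_zero]

theorem inS_of_inT (F : KF h N σ v w β) {x : h.V} (hx : InT h v w x) : InS h v w x := by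
  obtain ⟨h1, h2, h3⟩ := vw_self F
  rcases hx with h4 | h4 | h4 | h4 <;> rw [h4]
  · exact ⟨map_zero _, map_zero _⟩
  · exact ⟨h1, h3⟩
  · exact ⟨F.b_vw, h2⟩
  · exact ⟨by rw [map_add, F.b_vw, h1, add_zero], by rw [map_add, h2, h3, add_zero]⟩

theorem sigma_sub (F : KF h N σ v w β) (x : h.V) : InT h v w (σ x + x) := by
  have e : σ x + x = h.b w x • v + h.b v x • w := by
    rw [F.sigma_def]
    calc x + h.b w x • v + h.b v x • w + x = (h.b w x • v + h.b v x • w) + (x + x) := by abel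
      _ = _ := by rw [h.add_self, add_zero]
  rw [e]
  rcases zm (h.b w x) with h1 | h1 <;> rcases zm (h.b v x) with h2 | h2 <;> rw [h1, h2] <;>
    simp only [zero_smul, one_smul, zero_add, add_zero]
  · exact Or.inl rfl
  · exact Or.inr (Or.inr (Or.inl rfl))
  · exact Or.inr (Or.inl rfl)
  · exact Or.inr (Or.inr (Or.inr (add_comm _ _)))

theorem sigma_sq (F : KF h N σ v w β) : σ * σ = 1 := by
  ext x
  show σ (σ x) = x
  have h1 := sigma_S F (inS_of_inT F (sigma_sub F x))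
  rw [map_add] at h1
  calc σ (σ x) = (σ (σ x) + σ x) + σ x := by rw [add_assoc, h.add_self, add_zero]
    _ = (σ x + x) + σ x := by rw [h1]
    _ = x + (σ x + σ x) := by abel
    _ = x := by rw [h.add_self, add_zero]

theorem sigma_ne (F : KF h N σ v w β) : σ ≠ 1 := fun hs => F.sigma_not (hs ▸ one_mem _)

theorem relIndex_C0 (F : KF h N σ v w β) (hσ : σ ∈ h.act.range) :
    (C0 h N).relIndex (Subgroup.centralizer ({z} : Set G)) = 2 := by
  obtain ⟨c, hc⟩ := hσ
  rw [Subgroup.relIndex, Subgroup.index_eq_two_iff]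
  refine ⟨c, fun b => ?_⟩
  have hmem : ∀ x : Subgroup.centralizer ({z} : Set G),
      x ∈ (C0 h N).subgroupOf (Subgroup.centralizer ({z} : Set G)) ↔ h.act x ∈ N := by
    intro x
    rw [Subgroup.mem_subgroupOf, mem_C0]
    exact ⟨fun ⟨_, h⟩ => h, fun h => ⟨x.2, h⟩⟩
  rw [hmem, hmem, map_mul, hc]
  have h1 := F.H_le b⁻¹
  rw [map_inv] at h1
  rcases h1 with h1 | h1
  · right
    rw [inv_mem_iff] at h1
    refine ⟨h1, fun h2 => F.sigma_not ?_⟩
    have := N.mul_mem (N.inv_mem h1) h2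
    rwa [inv_mul_cancel_left] at this
  · left
    have h2 : h.act b * σ ∈ N := by
      have h3 := N.inv_mem h1
      have h4 : (σ * (h.act b)⁻¹)⁻¹ = h.act b * σ := by
        rw [mul_inv_rev, inv_inv, inv_eq_of_mul_eq_one_left (sigma_sq F)]
      rwa [h4] at h3
    refine ⟨h2, fun h3 => F.sigma_not ?_⟩
    have := N.mul_mem (N.inv_mem h3) h2
    rwa [inv_mul_cancel_left] at this

/-- if `x` commutes with `y ∈ Q` then `act x` fixes `pr y` -/
theorem act_fix {x : G} (hx : x ∈ Subgroup.centralizer ({z} : Set G)) {y : Q}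
    (hxy : x * y = y * x) : h.act ⟨x, hx⟩ (h.pr y) = h.pr y := by
  apply Pair.act_pr_coe
  show x * (y : G) * x⁻¹ = y
  rw [hxy]; group

/-- a vector of `T` lifted to `Q` is central in `B` -/
theorem T_comm {x : Q} (hx : InT h v w (h.pr x)) {y : G} (hy : y ∈ Yg h (Sg h v w)) :
    (x : G) * y = y * x := by
  obtain ⟨hyQ, hyS⟩ := hy
  have hyS' : InS h v w (h.pr ⟨y, hyQ⟩) := hyS
  rw [← (h.b_pr x ⟨y, hyQ⟩)]
  rcases hx with h1 | h1 | h1 | h1 <;> rw [h1]
  · rw [map_zero]; rfl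
  · exact hyS'.1
  · exact hyS'.2
  · rw [map_add, LinearMap.add_apply, hyS'.1, hyS'.2, add_zero]

/-- an element of `Q` commuting with `B` lies over `T` -/
theorem inT_of_comm [Finite Q] {x : G} (hxQ : x ∈ Q) (hx : ∀ y ∈ Yg h (Sg h v w), x * y = y * x) :
    InT h v w (h.pr ⟨x, hxQ⟩) := by
  apply inT_of_perp
  intro y hy
  obtain ⟨y, rfl⟩ := h.pr_surjective y
  exact (h.b_pr _ _).2 (hx y ((coe_mem_Yg h _).2 hy))

/-- `f` permuting `T` cyclically commutes with `σ` -/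
theorem comm_sigma (F : KF h N σ v w β) {c : Subgroup.centralizer ({z} : Set G)} (hv : h.act c v = w)
    (hw : h.act c w = v + w) : h.act c * σ = σ * h.act c := by
  ext x
  show h.act c (σ x) = σ (h.act c x)
  rw [F.sigma_def, F.sigma_def, map_add, map_add, map_smul, map_smul, hv, hw]
  have h1 : h.b v x = h.b w (h.act c x) := by rw [← hv, h.b_act]
  have h2 : h.b w x = h.b v (h.act c x) + h.b w (h.act c x) := by
    rw [← h.b_act c w x, hw, map_add, LinearMap.add_apply]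
  rw [h1, h2, smul_add, add_smul]
  generalize h.b w (h.act c x) = i
  generalize h.b v (h.act c x) = j
  have e : i • w + i • w = 0 := h.add_self _
  calc h.act c x + (j • w + i • w) + (i • v + i • w) = h.act c x + i • v + j • w + (i • w + i • w) := by abel
    _ = _ := by rw [e, add_zero]

theorem exists_u [Finite G] (F : KF h N σ v w β) (hσ : σ ∈ h.act.range) :
    ∃ (u : G) (huC : u ∈ Subgroup.centralizer ({z} : Set G)), h.act ⟨u, huC⟩ = σ ∧
      (∀ y ∈ Yg h (Sg h v w), u * y = y * u) ∧ (u * u = 1 ∨ u * u = z) := by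
  obtain ⟨c0, hc0⟩ := hσ
  obtain ⟨x, hxQ, hx⟩ := exists_lift_comm h (Sg h v w) c0 (fun s hs => by rw [hc0]; exact sigma_S F hs)
  have hxC : x ∈ Subgroup.centralizer ({z} : Set G) :=
    Subgroup.mem_centralizer_singleton_iff.2 (h.comm_z x hxQ)
  set u := x * (c0 : G) with hu
  have huC : u ∈ Subgroup.centralizer ({z} : Set G) := mul_mem hxC c0.2
  have hact : h.act ⟨u, huC⟩ = σ := by
    have e : (⟨u, huC⟩ : Subgroup.centralizer ({z} : Set G)) = ⟨x, hxC⟩ * c0 := rfl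
    rw [e, map_mul, h.act_mem _ hxQ, one_mul, hc0]
  -- an element `c` with `c³ = 1`
  obtain ⟨c1, hc1, hc1v, hc1w⟩ := F.odd
  obtain ⟨c, hc3, hcv, hcw⟩ : ∃ c : Subgroup.centralizer ({z} : Set G), (c : G) * c * c = 1 ∧
      h.act c v = w ∧ h.act c w = v + w := by
    have h1 : (c1 * c1 * c1 : Subgroup.centralizer ({z} : Set G)) ∈ h.act.ker := by
      rw [MonoidHom.mem_ker, map_mul, map_mul, hc1]
    have h2 : ((c1 * c1 * c1 : Subgroup.centralizer ({z} : Set G)) : G) ∈ Q :=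
      h.mem_of_act _ (MonoidHom.mem_ker.1 h1)
    have h3 : ((c1 : G) * c1 * c1) * (c1 * c1 * c1) * ((c1 * c1 * c1) * (c1 * c1 * c1)) = 1 := by
      rcases h.sq _ h2 with h4 | h4
      · have h5 : ((c1 : G) * c1 * c1) * (c1 * c1 * c1) = 1 := h4
        rw [h5, one_mul]
      · have h5 : ((c1 : G) * c1 * c1) * (c1 * c1 * c1) = z := h4
        rw [h5, h.z_sq]
    refine ⟨c1 * c1 * c1 * c1, ?_, ?_, ?_⟩
    · show (c1 : G) * c1 * c1 * c1 * (c1 * c1 * c1 * c1) * (c1 * c1 * c1 * c1) = 1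
      rw [← h3]; simp only [mul_assoc]
    · rw [map_mul, map_mul, map_mul, hc1, one_mul]; exact hc1v
    · rw [map_mul, map_mul, map_mul, hc1, one_mul]; exact hc1w
  -- conjugation by `c` preserves `B`
  have hci : (c : G)⁻¹ * z = z * (c : G)⁻¹ := Subgroup.mem_centralizer_singleton_iff.1 c⁻¹.2
  have hvi : h.act c⁻¹ w = v := by
    rw [← hcv, ← LinearEquiv.mul_apply, ← map_mul, inv_mul_cancel, map_one]; rfl
  have hwi : h.act c⁻¹ v = v + w := by
    have h1 : h.act c⁻¹ (v + w) = w := by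
      rw [← hcw, ← LinearEquiv.mul_apply, ← map_mul, inv_mul_cancel, map_one]; rfl
    rw [map_add, hvi] at h1
    calc h.act c⁻¹ v = (h.act c⁻¹ v + v) + v := by rw [add_assoc, h.add_self, add_zero]
      _ = v + w := by rw [h1, add_comm]
  have hcB : ∀ y ∈ Yg h (Sg h v w), (c : G)⁻¹ * y * c ∈ Yg h (Sg h v w) := by
    rintro y ⟨hyQ, hyS⟩
    have h1 : (c : G)⁻¹ * y * ((c : G)⁻¹)⁻¹ ∈ Q := h.conj_mem (c : G)⁻¹ hci y hyQ
    rw [inv_inv] at h1
    refine ⟨h1, ?_⟩
    have h2 : h.act c⁻¹ (h.pr ⟨y, hyQ⟩) = h.pr ⟨(c : G)⁻¹ * y * c, h1⟩ := by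
      apply Pair.act_pr_coe
      show (c : G)⁻¹ * y * ((c : G)⁻¹)⁻¹ = (c : G)⁻¹ * y * c
      rw [inv_inv]
    have hyS' : InS h v w (h.pr ⟨y, hyQ⟩) := hyS
    rw [← h2]
    constructor
    · rw [← h.b_act c, hcv, ← LinearEquiv.mul_apply, ← map_mul, mul_inv_cancel, map_one]
      exact hyS'.2
    · rw [← h.b_act c, hcw, ← LinearEquiv.mul_apply, ← map_mul, mul_inv_cancel, map_one, map_add,
        LinearMap.add_apply]
      show h.b v (h.pr ⟨y, hyQ⟩) + h.b w (h.pr ⟨y, hyQ⟩) = 0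
      rw [hyS'.1, hyS'.2, add_zero]
  have hconjB : ∀ {x : G}, (∀ y ∈ Yg h (Sg h v w), x * y = y * x) →
      ∀ y ∈ Yg h (Sg h v w), (c * x * (c : G)⁻¹) * y = y * (c * x * (c : G)⁻¹) := by
    intro x hx y hy
    calc (c * x * (c : G)⁻¹) * y = c * (x * ((c : G)⁻¹ * y * c)) * (c : G)⁻¹ := by group
      _ = c * (((c : G)⁻¹ * y * c) * x) * (c : G)⁻¹ := by rw [hx _ (hcB y hy)]
      _ = _ := by group
  have hcs := comm_sigma F hcv hcw
  have hconjact : ∀ {x : G} (hxC : x ∈ Subgroup.centralizer ({z} : Set G)), h.act ⟨x, hxC⟩ = σ →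
      ∃ hx' : c * x * (c : G)⁻¹ ∈ Subgroup.centralizer ({z} : Set G), h.act ⟨_, hx'⟩ = σ := by
    intro x hxC hxa
    refine ⟨mul_mem (mul_mem c.2 hxC) (inv_mem c.2), ?_⟩
    have e : (⟨c * x * (c : G)⁻¹, mul_mem (mul_mem c.2 hxC) (inv_mem c.2)⟩ :
      Subgroup.centralizer ({z} : Set G)) = c * ⟨x, hxC⟩ * c⁻¹ := rfl
    rw [e, map_mul, map_mul, map_inv, hxa, hcs, mul_inv_cancel_right]
  -- the difference of two lifts
  have hdiff : ∀ {x y : G} (hxC : x ∈ Subgroup.centralizer ({z} : Set G))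
      (hyC : y ∈ Subgroup.centralizer ({z} : Set G)), h.act ⟨x, hxC⟩ = σ → h.act ⟨y, hyC⟩ = σ →
      (∀ b ∈ Yg h (Sg h v w), x * b = b * x) → (∀ b ∈ Yg h (Sg h v w), y * b = b * y) →
      ∃ τ ∈ Yg h (Tg h v w), y = x * τ := by
    intro x y hxC hyC hxa hya hxB hyB
    have h1 : x⁻¹ * y ∈ Q := by
      have : h.act (⟨x, hxC⟩⁻¹ * ⟨y, hyC⟩) = 1 := by rw [map_mul, map_inv, hxa, hya, inv_mul_cancel]
      exact h.mem_of_act _ this
    refine ⟨x⁻¹ * y, ⟨h1, inT_of_comm h1 ?_⟩, by group⟩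
    intro b hb
    have h2 := hxB b hb
    calc x⁻¹ * y * b = x⁻¹ * (y * b) := by group
      _ = x⁻¹ * (b * y) := by rw [hyB b hb]
      _ = x⁻¹ * (b * x) * x⁻¹ * y := by group
      _ = x⁻¹ * (x * b) * x⁻¹ * y := by rw [h2]
      _ = b * (x⁻¹ * y) := by group
  have hTB : ∀ {τ : G}, τ ∈ Yg h (Tg h v w) → τ ∈ Yg h (Sg h v w) := by
    rintro τ ⟨h1, h2⟩
    exact ⟨h1, inS_of_inT F h2⟩
  -- `u₁ = u^c`, `u₂ = u^{c²}`
  obtain ⟨hu1C, hu1a⟩ := hconjact huC hact
  have hu1B := hconjB hx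
  obtain ⟨hu2C, hu2a⟩ := hconjact hu1C hu1a
  have hu2B := hconjB hu1B
  obtain ⟨τ, hτ, hτu⟩ := hdiff huC hu1C hact hu1a hx hu1B
  obtain ⟨ρ, hρ, hρu⟩ := hdiff huC hu2C hact hu2a hx hu2B
  set u1 := c * u * (c : G)⁻¹ with hu1
  set u2 := c * u1 * (c : G)⁻¹ with hu2
  have c1 : u * u1 = u1 * u := by
    calc u * u1 = u * (u * τ) := by rw [hτu]
      _ = u * (τ * u) := by rw [hx τ (hTB hτ)]
      _ = (u * τ) * u := by group
      _ = u1 * u := by rw [hτu]
  have c2 : u * u2 = u2 * u := by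
    calc u * u2 = u * (u * ρ) := by rw [hρu]
      _ = u * (ρ * u) := by rw [hx ρ (hTB hρ)]
      _ = (u * ρ) * u := by group
      _ = u2 * u := by rw [hρu]
  have c12 : u1 * u2 = u2 * u1 := by
    have h1 : ρ * τ = τ * ρ := by
      obtain ⟨hτQ, hτT⟩ := hτ
      exact (T_comm (x := ⟨τ, hτQ⟩) hτT (hTB hρ)).symm
    rw [hτu, hρu]
    calc u * τ * (u * ρ) = u * (τ * u) * ρ := by group
      _ = u * (u * τ) * ρ := by rw [hx τ (hTB hτ)]
      _ = u * u * (τ * ρ) := by group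
      _ = u * u * (ρ * τ) := by rw [h1]
      _ = u * (u * ρ) * τ := by group
      _ = u * (ρ * u) * τ := by rw [hx ρ (hTB hρ)]
      _ = u * ρ * (u * τ) := by group
  have h33 : c * u2 * (c : G)⁻¹ = u := by
    have hc3' : (c : G)⁻¹ * (c : G)⁻¹ * (c : G)⁻¹ = 1 := by
      have : ((c : G)⁻¹ * (c : G)⁻¹ * (c : G)⁻¹) = ((c : G) * c * c)⁻¹ := by group
      rw [this, hc3, inv_one]
    calc c * u2 * (c : G)⁻¹ = ((c : G) * c * c) * u * ((c : G)⁻¹ * (c : G)⁻¹ * (c : G)⁻¹) := by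
          rw [hu2, hu1]; group
      _ = u := by rw [hc3, hc3']; group
  have hNC : u * u1 * u2 ∈ Subgroup.centralizer ({z} : Set G) := mul_mem (mul_mem huC hu1C) hu2C
  have hNa : h.act ⟨u * u1 * u2, hNC⟩ = σ := by
    have e : (⟨u * u1 * u2, hNC⟩ : Subgroup.centralizer ({z} : Set G)) = ⟨u, huC⟩ * ⟨u1, hu1C⟩ * ⟨u2, hu2C⟩ := rfl
    rw [e, map_mul, map_mul, hact, hu1a, hu2a, sigma_sq F, one_mul]
  have hNB : ∀ y ∈ Yg h (Sg h v w), (u * u1 * u2) * y = y * (u * u1 * u2) := by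
    intro y hy
    calc (u * u1 * u2) * y = u * u1 * (u2 * y) := by group
      _ = u * (u1 * y) * u2 := by rw [hu2B y hy]; group
      _ = (u * y) * u1 * u2 := by rw [hu1B y hy]; group
      _ = y * (u * u1 * u2) := by rw [hx y hy]; group
  have hNc : c * (u * u1 * u2) * (c : G)⁻¹ = u * u1 * u2 := by
    calc c * (u * u1 * u2) * (c : G)⁻¹ = (c * u * (c : G)⁻¹) * (c * u1 * (c : G)⁻¹) * (c * u2 * (c : G)⁻¹) := by
          group
      _ = u1 * u2 * u := by rw [h33]
      _ = u1 * (u * u2) := by rw [c2]; group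
      _ = u * u1 * u2 := by rw [c1]; group
  set U := u * u1 * u2 with hU
  refine ⟨U, hNC, hNa, hNB, ?_⟩
  have hUQ : U * U ∈ Q := by
    have : h.act (⟨U, hNC⟩ * ⟨U, hNC⟩) = 1 := by rw [map_mul, hNa, sigma_sq F]
    exact h.mem_of_act _ this
  have hUT : InT h v w (h.pr ⟨U * U, hUQ⟩) := by
    apply inT_of_comm
    intro y hy
    rw [mul_assoc, hNB y hy, ← mul_assoc, hNB y hy, mul_assoc]
  have hfix : h.act c (h.pr ⟨U * U, hUQ⟩) = h.pr ⟨U * U, hUQ⟩ := by
    apply Pair.act_pr_coe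
    show (c : G) * (U * U) * (c : G)⁻¹ = U * U
    calc (c : G) * (U * U) * (c : G)⁻¹ = (c * U * (c : G)⁻¹) * (c * U * (c : G)⁻¹) := by group
      _ = _ := by rw [hNc]
  have h0 : h.pr ⟨U * U, hUQ⟩ = 0 := by
    rcases hUT with h1 | h1 | h1 | h1
    · exact h1
    · exfalso
      rw [h1, hcv] at hfix
      exact F.vw_ne hfix.symm
    · exfalso
      rw [h1, hcw] at hfix
      exact F.v_ne (by simpa using hfix)
    · exfalso
      rw [h1, map_add, hcv, hcw] at hfix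
      have h2 : v = w + v := by
        calc v = v + (w + w) := by rw [h.add_self, add_zero]
          _ = v + w + w := by abel
          _ = w + v := hfix
      exact F.w_ne (by simpa using h2.symm)
  rcases h.pr_eq_zero.1 h0 with h1 | h1
  · exact Or.inl h1
  · exact Or.inr h1

/-- the subspace `S ∩ β^⊥` -/
def Pg (h : Large Q z) (v w β : h.V) : Submodule (ZMod 2) h.V where
  carrier := {x | InS h v w x ∧ h.b β x = 0}
  zero_mem' := ⟨⟨map_zero _, map_zero _⟩, map_zero _⟩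
  add_mem' := by
    rintro x y ⟨⟨h1, h2⟩, h3⟩ ⟨⟨h4, h5⟩, h6⟩
    exact ⟨⟨by rw [map_add, h1, h4, add_zero], by rw [map_add, h2, h5, add_zero]⟩, by
      rw [map_add, h3, h6, add_zero]⟩
  smul_mem' := by
    rintro c x ⟨⟨h1, h2⟩, h3⟩
    exact ⟨⟨by rw [map_smul, h1, smul_zero], by rw [map_smul, h2, smul_zero]⟩, by
      rw [map_smul, h3, smul_zero]⟩

theorem mem_Pg {x : h.V} : x ∈ Pg h v w β ↔ InS h v w x ∧ h.b β x = 0 := Iff.rfl

/-- singular vectors perpendicular to `S ∩ β^⊥` lie in `T` -/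
theorem inT_of_sing [Finite Q] (F : KF h N σ v w β) {x : h.V} (hq : h.q x = 0)
    (hx : ∀ y, InS h v w y → h.b β y = 0 → h.b y x = 0) : InT h v w x := by
  have h4 : x ∈ Tg h v w ⊔ Submodule.span (ZMod 2) {β} := by
    apply Cfsg.Agent.LargeExtra.Perp.mem_of_perp
    intro y hy
    apply hx
    · exact ⟨hy v (Submodule.mem_sup_left (Or.inr (Or.inl rfl))),
        hy w (Submodule.mem_sup_left (Or.inr (Or.inr (Or.inl rfl))))⟩
    · exact hy β (Submodule.mem_sup_right (Submodule.mem_span_singleton_self β))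
  obtain ⟨s, hs, s', hs', hss⟩ := Submodule.mem_sup.1 h4
  obtain ⟨c, rfl⟩ := Submodule.mem_span_singleton.1 hs'
  rcases zm c with rfl | rfl
  · rw [zero_smul, add_zero] at hss
    rw [← hss]; exact hs
  · exfalso
    rw [one_smul] at hss
    have hs' : InT h v w s := hs
    have hqs : h.q s = 0 := by
      rcases hs' with h1 | h1 | h1 | h1 <;> rw [h1]
      · exact h.q_zero
      · exact F.q_v
      · exact F.q_w
      · rw [h.q_add', F.q_w, F.q_v, (vw_self F).2.2]; rfl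
    have hbs : h.b s β = 0 := by
      rcases hs' with h1 | h1 | h1 | h1 <;> rw [h1]
      · rw [map_zero]; rfl
      · exact F.β_mem.1
      · exact F.β_mem.2
      · rw [map_add, LinearMap.add_apply, F.β_mem.1, F.β_mem.2, add_zero]
    rw [← hss, h.q_add', hqs, F.q_β, hbs] at hq
    exact absurd hq (by decide)

/-- **The element `σ` is not induced by `C_G(z)`.** -/
theorem sigma_not [Finite G] (hG : ∀ H : Subgroup G, H.index ≠ 2) (F : KF h N σ v w β) :
    σ ∉ h.act.range := by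
  classical
  intro hσ
  obtain ⟨u0, hu0C, hu0a, hu0B, hu0u⟩ := exists_u F hσ
  have hrel := relIndex_C0 F hσ
  obtain ⟨b, hb⟩ := h.pr_surjective β
  have hbb : (b : G) * b = z := h.q_eq_one.1 (by rw [hb]; exact F.q_β)
  have hbB : (b : G) ∈ Yg h (Sg h v w) := (coe_mem_Yg h _).2 (by rw [hb]; exact F.β_mem)
  set P := Yg h (Pg h v w β) with hP
  have hPQ : P ≤ Q := Yg_le _ _
  have hPB : P ≤ Yg h (Sg h v w) := by
    rintro x ⟨h1, h2⟩
    exact ⟨h1, h2.1⟩
  have hPb : ∀ x ∈ P, (b : G) * x = x * b := by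
    rintro x ⟨h1, h2⟩
    rw [← h.b_pr b ⟨x, h1⟩, hb]
    exact h2.2
  have hPz : ∀ x ∈ P, x * z = z * x := fun x hx => h.comm_z x (hPQ hx)
  -- the involution
  obtain ⟨u, huC, hua, huP, huu⟩ : ∃ (u : G) (huC : u ∈ Subgroup.centralizer ({z} : Set G)),
      h.act ⟨u, huC⟩ = σ ∧ (∀ y ∈ P, y * u = u * y) ∧ u * u = 1 := by
    rcases hu0u with h1 | h1
    · exact ⟨u0, hu0C, hu0a, fun y hy => (hu0B y (hPB hy)).symm, h1⟩
    · have hbC : (b : G) ∈ Subgroup.centralizer ({z} : Set G) :=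
        Subgroup.mem_centralizer_singleton_iff.2 (h.comm_z b b.2)
      refine ⟨u0 * b, mul_mem hu0C hbC, ?_, ?_, ?_⟩
      · have e : (⟨u0 * b, mul_mem hu0C hbC⟩ : Subgroup.centralizer ({z} : Set G)) =
          ⟨u0, hu0C⟩ * ⟨b, hbC⟩ := rfl
        rw [e, map_mul, h.act_mem ⟨(b : G), hbC⟩ b.2, mul_one, hu0a]
      · intro y hy
        calc y * (u0 * b) = (y * u0) * b := by group
          _ = u0 * (y * b) := by rw [← hu0B y (hPB hy)]; group
          _ = u0 * b * y := by rw [← hPb y hy]; group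
      · calc u0 * b * (u0 * b) = u0 * (b * u0) * b := by group
          _ = (u0 * u0) * (b * b) := by rw [← hu0B b hbB]; group
          _ = 1 := by rw [h1, hbb, h.z_sq]
  have huz : u * z = z * u := Subgroup.mem_centralizer_singleton_iff.1 huC
  have huC0 : u ∉ C0 h N := by
    intro h1
    obtain ⟨h2, h3⟩ := mem_C0.1 h1
    rw [hua] at h3
    exact F.sigma_not h3
  obtain ⟨g, hne, hcomm, -, -⟩ := Cfsg.Agent.LargeExtra.Transfer.exists_conj hG
    (Cfsg.Agent.LargeExtra.TwoCentral.odd_index h) C0_le hrel u huu huz huC0 P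
    ((isPGroup h).to_le hPQ) huP hPz
  set z' := g * z * g⁻¹ with hz'
  have hzP : z ∈ P := z_mem_Yg h _
  have hzz : z * z' = z' * z := hcomm z hzP
  have hz'C : z' ∈ Subgroup.centralizer ({z} : Set G) := Subgroup.mem_centralizer_singleton_iff.2 hzz.symm
  have hz'1 : z' ≠ 1 := by
    intro h3
    apply h.z_ne
    calc z = g⁻¹ * z' * g := by rw [hz']; group
      _ = 1 := by rw [h3]; group
  have hz'sq : z' * z' = 1 := by
    calc z' * z' = g * (z * z) * g⁻¹ := by rw [hz']; group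
      _ = 1 := by rw [h.z_sq]; group
  have hfixP : ∀ x, InS h v w x → h.b β x = 0 → h.act ⟨z', hz'C⟩ x = x := by
    intro x hx hxβ
    obtain ⟨y, rfl⟩ := h.pr_surjective x
    exact act_fix hz'C (hcomm y ((coe_mem_Yg h _).2 ⟨hx, hxβ⟩)).symm
  rcases F.small ⟨z', hz'C⟩ (fun x hx hxβ => by
    rw [hfixP x hx hxβ, h.add_self]; exact Or.inl rfl) with hact | hact
  · -- `z' ∈ Q`
    have hz'Q : z' ∈ Q := h.mem_of_act _ hact
    have h1 : InT h v w (h.pr ⟨z', hz'Q⟩) := by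
      apply inT_of_sing F (h.q_eq_zero.2 hz'sq)
      intro y hy hyβ
      obtain ⟨y, rfl⟩ := h.pr_surjective y
      exact (h.b_pr _ _).2 (hcomm y ((coe_mem_Yg h _).2 ⟨hy, hyβ⟩))
    obtain ⟨h2, h3, h4⟩ := F.fus ⟨z', hz'Q⟩ (isConj_iff.2 ⟨g, hz'.symm⟩)
    rcases h1 with h1 | h1 | h1 | h1
    · rcases h.pr_eq_zero.1 h1 with h5 | h5
      · exact hz'1 h5
      · exact hne h5
    · exact h2 h1
    · exact h3 h1
    · exact h4 h1
  · -- `z'` acts as `σ`
    have hz'Q : z' ∉ Q := fun h1 => sigma_ne F (hact.symm.trans (h.act_mem _ h1))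
    set A' := Q.map (MulAut.conj g).toMonoidHom with hA'
    have la : Large A' z' := h.conj g
    have hzA : z ∉ A' := by
      intro h1
      obtain ⟨y, hy, hyz⟩ := h1
      have h2 : g * y * g⁻¹ = z := hyz
      have h3 : g⁻¹ * z * (g⁻¹)⁻¹ = y := by rw [← h2]; group
      have h4 : g⁻¹ * z * (g⁻¹)⁻¹ ∈ Q := by rw [h3]; exact hy
      have h5 : g⁻¹ * z * (g⁻¹)⁻¹ ≠ z := by
        intro h6
        apply hz'Q
        have : z' = z := by
          rw [hz']
          calc g * z * g⁻¹ = g * (g⁻¹ * z * (g⁻¹)⁻¹) * g⁻¹ := by rw [h6]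
            _ = z := by group
        rw [this]; exact h.z_mem
      have p2 := pair_of_conj h h4 h5
      obtain ⟨y', hy', hyz'⟩ := p2.z_mem
      apply hz'Q
      have h6 : g⁻¹ * y' * (g⁻¹)⁻¹ = z := hyz'
      have h7 : z' = y' := by rw [hz', ← h6]; group
      rw [h7]; exact hy'
    -- `D' = Q ∩ A'`
    have hD : ∀ d : Q, (d : G) ∈ A' → InT h v w (h.pr d) := by
      intro d hdA
      apply inT_of_sing F
      · rw [h.q_eq_zero]
        rcases h.sq d d.2 with h2 | h2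
        · exact h2
        · exact absurd (h2 ▸ A'.mul_mem hdA hdA) hzA
      · intro r hr hrβ
        obtain ⟨r, rfl⟩ := h.pr_surjective r
        have hrz : (r : G) * z' = z' * r := hcomm r ((coe_mem_Yg h _).2 ⟨hr, hrβ⟩)
        rw [h.b_pr]
        rcases h.comm r r.2 d d.2 with h2 | h2
        · exact h2
        · exfalso
          apply hzA
          have h3 : (r : G) * d * (r : G)⁻¹ ∈ A' := la.conj_mem r hrz d hdA
          have h4 : (r : G) * d * (r : G)⁻¹ = d * z := by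
            rw [h2, mul_assoc _ z, ← (h.commz r.2).inv_left.eq]; group
          rw [h4] at h3
          have := A'.mul_mem (A'.inv_mem hdA) h3
          rwa [inv_mul_cancel_left] at this
    -- `X' = C_{A'}(z)`
    set X' := Subgroup.centralizer ({z} : Set G) ⊓ A' with hX'
    have hX'le : X' ≤ Subgroup.centralizer ({z} : Set G) := inf_le_left
    have hXact : ∀ x (hx : x ∈ X'), h.act ⟨x, hX'le hx⟩ = 1 ∨ h.act ⟨x, hX'le hx⟩ = σ := by
      intro x hx
      have hxz : x * z = z * x := Subgroup.mem_centralizer_singleton_iff.1 (hX'le hx)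
      have hxA : x ∈ A' := (Subgroup.mem_inf.1 hx).2
      apply F.small
      intro r hr hrβ
      obtain ⟨r, rfl⟩ := h.pr_surjective r
      have hrz : (r : G) * z' = z' * r := hcomm r ((coe_mem_Yg h _).2 ⟨hr, hrβ⟩)
      have h1 : x * r * x⁻¹ * (r : G)⁻¹ ∈ Q :=
        Q.mul_mem (h.conj_mem x hxz r r.2) (Q.inv_mem r.2)
      have h2 : x * r * x⁻¹ * (r : G)⁻¹ ∈ A' := by
        have h3 : (r : G) * x⁻¹ * (r : G)⁻¹ ∈ A' := la.conj_mem r hrz _ (A'.inv_mem hxA)
        have := A'.mul_mem hxA h3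
        have e : x * ((r : G) * x⁻¹ * (r : G)⁻¹) = x * r * x⁻¹ * (r : G)⁻¹ := by group
        rwa [e] at this
      have h3 : h.act ⟨x, hX'le hx⟩ (h.pr r) = h.pr ⟨x * r * x⁻¹ * (r : G)⁻¹, h1⟩ + h.pr r := by
        rw [← h.pr_mul]
        apply Pair.act_pr_coe
        show x * (r : G) * x⁻¹ = x * r * x⁻¹ * (r : G)⁻¹ * r
        group
      rw [h3, add_assoc, h.add_self, add_zero]
      exact hD _ h2
    -- `|X'| ≤ 8`
    have h1 := card_img h hX'le
    have h2 : Nat.card (img h X') ≤ 2 := by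
      have h3 : ((img h X' : Subgroup (h.V ≃ₗ[ZMod 2] h.V)) : Set (h.V ≃ₗ[ZMod 2] h.V)) ⊆ {1, σ} := by
        rintro f ⟨c, hc, rfl⟩
        rcases hXact c hc with h4 | h4
        · left; exact h4
        · right; exact h4
      have h4 := Set.ncard_le_ncard h3 (Set.toFinite _)
      exact h4.trans ((Set.ncard_insert_le _ _).trans (by rw [Set.ncard_singleton]))
    have h3 : Nat.card ↥(X' ⊓ Q) ≤ 4 := by
      have hinj : Function.Injective (fun x : ↥(X' ⊓ Q) =>
          (⟨h.pr ⟨x, (Subgroup.mem_inf.1 x.2).2⟩,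
            hD ⟨x, (Subgroup.mem_inf.1 x.2).2⟩ (Subgroup.mem_inf.1 (Subgroup.mem_inf.1 x.2).1).2⟩ :
              Tg h v w)) := by
        intro x y hxy
        have h4 : h.pr ⟨x, (Subgroup.mem_inf.1 x.2).2⟩ = h.pr ⟨y, (Subgroup.mem_inf.1 y.2).2⟩ :=
          congrArg (fun t : Tg h v w => (t : h.V)) hxy
        apply Subtype.ext
        rcases h.pr_eq_pr.1 h4 with h5 | h5
        · exact h5
        · exfalso
          apply hzA
          have h6 : (x : G) = y * z := h5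
          have hxA : (x : G) ∈ A' := (Subgroup.mem_inf.1 (Subgroup.mem_inf.1 x.2).1).2
          have hyA : (y : G) ∈ A' := (Subgroup.mem_inf.1 (Subgroup.mem_inf.1 y.2).1).2
          have := A'.mul_mem (A'.inv_mem hyA) hxA
          rwa [h6, inv_mul_cancel_left] at this
      have hTf : ((Tg h v w : Submodule (ZMod 2) h.V) : Set h.V) ⊆ (({0, v, w, w + v} : Finset h.V) : Set h.V) := by
        intro x hx
        have hx' : x = 0 ∨ x = v ∨ x = w ∨ x = w + v := hx
        simpa using hx'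
      have h4 : Nat.card (Tg h v w) ≤ 4 := by
        show Nat.card ((Tg h v w : Submodule (ZMod 2) h.V) : Set h.V) ≤ 4
        rw [Nat.card_coe_set_eq]
        refine (Set.ncard_le_ncard hTf (Finset.finite_toSet _)).trans ?_
        rw [Set.ncard_coe_finset]
        exact Finset.card_le_four
      have hTfin : Finite (Tg h v w) :=
        Finite.of_injective (fun x => (x : h.V)) Subtype.val_injective
      exact (Nat.card_le_card_of_injective _ hinj).trans h4
    have h4 : Nat.card X' ≤ 8 := by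
      rw [← h1]
      exact Nat.mul_le_mul h2 h3
    -- `|X'| ≥ 16`
    have h5 := Cfsg.Agent.LargeExtra.FlipOuter.card_cent la h.z_sq hzz
    have h6 : Nat.card la.V = 256 := by
      have h7 : Nat.card A' = Nat.card Q := Subgroup.card_map_of_injective (MulAut.conj g).injective
      have h8 := la.card_eq
      have h9 := h.card_eq
      rw [F.card_V] at h9
      omega
    rw [h6] at h5
    have h7 : Nat.card X' * Nat.card X' ≤ 8 * 8 := Nat.mul_le_mul h4 h4
    have h8 : 256 ≤ Nat.card X' * Nat.card X' := h5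
    omega

end Cfsg.Agent.TypeO8Minus.KillTwo
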